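import Cfsg.Agent.Lib.HalfDegree.Hom
import Cfsg.Agent.Lib.PSL2Sub.Classify
import Cfsg.Agent.Lib.PSL2Sub.Transfer
import Cfsg.Agent.Lib.PSL2Sub.PSL

/-!
# Groups with a faithful character of degree `(p - 1) / 2`
-/

set_option autoImplicit false

open scoped ComplexConjugate Classical

namespace CfsgLib.HalfDegree

universe u

open CfsgLib.Char CfsgLib.SmallDegree CfsgLib.PSL2Sub

variable {G : Type u} [Group G] [Fintype G] {p : ℕ} [Fact p.Prime] {P : Sylow p G} {χ : G → ℂ}

theorem Half.eq_one_of_center_pow (hh : Half P χ) {z : G} (hz : z ∈ Subgroup.center G)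
    (hzp : z ^ p = 1) : z = 1 := by
  by_contra hne
  have hpg : IsPGroup p (Subgroup.zpowers z) := by
    refine IsPGroup.of_card (n := 1) ?_
    rw [Nat.card_zpowers, pow_one, orderOf_eq_prime hzp hne]
  have hle : Subgroup.zpowers z ≤ (P : Subgroup G) := by
    haveI : (Subgroup.zpowers z).Normal := ⟨fun y hy g => by
      have hyc : y ∈ Subgroup.center G := Subgroup.zpowers_le.2 hz hy
      rw [Subgroup.mem_center_iff.1 hyc g, mul_inv_cancel_right]
      exact hy⟩
    have hsup : IsPGroup p (Subgroup.zpowers z ⊔ (P : Subgroup G) : Subgroup G) :=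
      hpg.to_sup_of_normal_left P.2
    exact le_trans le_sup_left (P.3 hsup le_sup_right).le
  exact hne (hh.eq_one_of_mem_center (hle (Subgroup.mem_zpowers z)) hz)

/-- An element of order `p` is conjugate into `P`. -/
theorem Half.exists_conj_mem (hh : Half P χ) {x : G} (hx : x ^ p = 1) :
    ∃ g : G, g⁻¹ * x * g ∈ (P : Subgroup G) := by
  have hpg : IsPGroup p (Subgroup.zpowers x) := by
    obtain ⟨j, -, hj⟩ := (Nat.dvd_prime_pow (Fact.out : p.Prime)).1
      (orderOf_dvd_of_pow_eq_one (show x ^ p ^ 1 = 1 by rwa [pow_one]))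
    exact IsPGroup.of_card (n := j) (by rw [Nat.card_zpowers, hj])
  obtain ⟨Q, hQ⟩ := hpg.exists_le_sylow
  obtain ⟨g, hg⟩ := MulAction.exists_smul_eq G P Q
  refine ⟨g, ?_⟩
  have : x ∈ ((g • P : Sylow p G) : Subgroup G) := hg ▸ hQ (Subgroup.mem_zpowers x)
  rw [Sylow.coe_subgroup_smul, Subgroup.mem_pointwise_smul_iff_inv_smul_mem] at this
  simpa [MulAut.smul_def] using this

theorem Half.conj_eq_of_mem (hh : Half P χ) {x s t : G} (hs : s ^ p = 1) (ht : t ^ p = 1)
    {z : G} (hz : z ∈ Subgroup.center G) (he : x * s * x⁻¹ = t * z) : x * s * x⁻¹ = t := by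
  have h1 : (x * s * x⁻¹) ^ p = 1 := by rw [conj_pow, hs, mul_one, mul_inv_cancel]
  rw [he, (show Commute t z from Subgroup.mem_center_iff.1 hz t).mul_pow, ht, one_mul] at h1
  rw [he, hh.eq_one_of_center_pow hz h1, mul_one]

theorem Half.pow_eq_one_of_mem (hh : Half P χ) {s : G} (hs : s ∈ (P : Subgroup G)) :
    s ^ p = 1 := by
  have h1 := congrArg (fun z : (P : Subgroup G) => (z : G))
    (pow_card_eq_one' (x := (⟨s, hs⟩ : (P : Subgroup G))))
  rw [hh.card_P] at h1
  simpa using h1

/-- The kernel of a homomorphism killing the center and not `P` is the center. -/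
theorem Half.ker_eq_center (hh : Half P χ) {H : Type*} [Group H] (ψ : G →* H)
    (hcen : ∀ z ∈ Subgroup.center G, ψ z = 1) {a : G} (ha : a ∈ (P : Subgroup G)) (hψ : ψ a ≠ 1) :
    ψ.ker = Subgroup.center G := by
  have hp : p.Prime := Fact.out
  set K := ψ.ker with hK
  refine le_antisymm ?_ fun z hz => hcen z hz
  have ha1 : (⟨a, ha⟩ : (P : Subgroup G)) ≠ 1 := fun e1 => hψ (by
    rw [show a = 1 from congrArg Subtype.val e1, map_one])
  have hgen : ∀ s ∈ (P : Subgroup G), ∃ j : ℤ, a ^ j = s := fun s hs => by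
    obtain ⟨j, hj⟩ := Subgroup.mem_zpowers_iff.1
      ((zpowers_eq_top_of_prime_card hh.card_P ha1).symm ▸
        Subgroup.mem_top (⟨s, hs⟩ : (P : Subgroup G)))
    exact ⟨j, congrArg Subtype.val hj⟩
  have hKP : ∀ s ∈ (P : Subgroup G), s ∈ K → s = 1 := by
    intro s hs hsK
    by_contra hne
    have hne' : (⟨s, hs⟩ : (P : Subgroup G)) ≠ 1 := fun e1 => hne (congrArg Subtype.val e1)
    obtain ⟨j, hj⟩ := Subgroup.mem_zpowers_iff.1
      ((zpowers_eq_top_of_prime_card hh.card_P hne').symm ▸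
        Subgroup.mem_top (⟨a, ha⟩ : (P : Subgroup G)))
    exact hψ (by
      rw [← (show s ^ j = a from congrArg Subtype.val hj), map_zpow, show ψ s = 1 from hsK,
        one_zpow])
  set M := K ⊔ (P : Subgroup G) with hM
  have hPM : (P : Subgroup G) ≤ M := le_sup_right
  set Q : Sylow p M := P.subtype hPM
  have hQc : Nat.card (Q : Subgroup M) = p := by
    refine Eq.trans ?_ hh.card_P
    exact Nat.card_congr
      { toFun := fun x => ⟨(x.1 : G), x.2⟩
        invFun := fun x => ⟨⟨x.1, hPM x.2⟩, x.2⟩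
        left_inv := fun x => rfl
        right_inv := fun x => rfl }
  have hQu : Uniform Q := uniform_of_card_prime hQc
  have habN : ∀ x y : nor Q, x * y = y * x := by
    have hmem : ∀ x : nor Q, ((x : M) : G) ∈ cen P := by
      intro x
      obtain ⟨y, hy, s, hs, hys⟩ := Subgroup.mem_sup_of_normal_left.1 (x : M).2
      rw [← hys]
      refine mul_mem ?_ (hh.unif.le_cen hs)
      rw [Subgroup.mem_centralizer_iff]
      intro t ht
      have hxP : ((x : M) : G) * t * ((x : M) : G)⁻¹ ∈ (P : Subgroup G) :=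
        (Subgroup.mem_normalizer_iff.1 x.2 (⟨t, hPM ht⟩ : M)).1 ht
      rw [← hys, show y * s * t * (y * s)⁻¹ = y * (s * t * s⁻¹) * y⁻¹ by group,
        show s * t * s⁻¹ = t by
          rw [← Subgroup.mem_centralizer_iff.1 (hh.unif.le_cen hs) t ht, mul_inv_cancel_right]]
        at hxP
      have h1 : y * t * y⁻¹ * t⁻¹ = 1 := by
        refine hKP _ (mul_mem hxP (inv_mem ht)) ?_
        rw [hK, MonoidHom.mem_ker, map_mul, map_mul, map_mul, show ψ y = 1 from hy, one_mul,
          map_inv, show ψ y = 1 from hy, inv_one, mul_one, map_inv, mul_inv_cancel]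
      rw [mul_inv_eq_one, mul_inv_eq_iff_eq_mul] at h1
      exact h1.symm
    intro x y
    obtain ⟨z, hz, s, hs, hx⟩ := hh.exists_center_mul (hmem x)
    obtain ⟨z', hz', s', hs', hy⟩ := hh.exists_center_mul (hmem y)
    refine Subtype.ext (Subtype.ext ?_)
    change ((x : M) : G) * ((y : M) : G) = ((y : M) : G) * ((x : M) : G)
    rw [hx, hy]
    have c1 : Commute z (z' * s') := (Subgroup.mem_center_iff.1 hz _).symm
    have c2 : Commute s z' := Subgroup.mem_center_iff.1 hz' s
    have c3 : Commute s s' :=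
      (Subgroup.mem_centralizer_iff.1 (hh.unif.le_cen hs) s' hs').symm
    exact (c1.mul_left (c2.mul_right c3)).eq
  -- all constituents on `M` are linear
  have hχM := IsCharacter.restrict hh.isChar M
  obtain ⟨c, hc⟩ := IsCharacter.exists_nat_combination hχM
  have hlin : ∀ φ : Cfsg.IrrCharacter M, c φ ≠ 0 → (φ : M → ℂ) 1 = 1 := by
    intro φ hφ
    have hφc := IsIrrCharacter.isCharacter φ.2
    have hle := (classInner_ne_zero_degree hχM (φ := φ) (by
      rw [hc, classInner_sum_smul_irr (fun ψ => (c ψ : ℂ))]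
      exact Nat.cast_ne_zero.2 hφ)).1
    have hdeg : degree (fun m : M => χ m) = degree χ := by simp [degree]
    have hsupp : 2 * (hQu.supp (φ : M → ℂ)).card ≤ p := by
      have h1 := hQu.card_supp_le hφc
      have h2 := hh.deg
      omega
    have hirr : Cfsg.IsIrrCharacter (nor Q) (fun n : nor Q => (φ : M → ℂ) n) := by
      refine IsCharacter.isIrrCharacter_of_classInner_self (IsCharacter.restrict hφc (nor Q)) ?_
      rw [← LatticeFix.classInner_self_eq hQu hQc hφc hsupp]
      exact classInner_irr_self φ.2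
    have := (CharOver.abelian_irr habN hirr).1
    simpa using this
  have hMab : ∀ x y : M, x * y = y * x := by
    intro x y
    have h1 : x * y * x⁻¹ * y⁻¹ = 1 := by
      refine Subtype.ext (hh.faithful _ ?_)
      change (fun m : M => χ m) (x * y * x⁻¹ * y⁻¹) = (fun m : M => χ m) 1
      rw [hc]
      simp only [Finset.sum_apply, Pi.smul_apply, smul_eq_mul]
      refine Finset.sum_congr rfl fun φ _ => ?_
      by_cases hφ : c φ = 0
      · simp [hφ]
      obtain ⟨f, hf⟩ := IsCharacter.exists_linear (IsIrrCharacter.isCharacter φ.2) (hlin φ hφ)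
      rw [hf, hf, map_mul, map_mul, map_mul, map_inv, map_inv, map_one, mul_right_comm (f x) _ _,
        mul_inv_cancel, one_mul, mul_inv_cancel]
    rwa [mul_inv_eq_one, mul_inv_eq_iff_eq_mul] at h1
  intro x hx
  have hxc : x ∈ cen P := by
    rw [Subgroup.mem_centralizer_iff]
    intro t ht
    exact (congrArg Subtype.val (hMab ⟨x, le_sup_left (b := (P : Subgroup G)) hx⟩ ⟨t, hPM ht⟩)).symm
  obtain ⟨z, hz, s, hs, rfl⟩ := hh.exists_center_mul hxc
  have hs1 : s = 1 := hKP s hs (by
    rw [hK, MonoidHom.mem_ker] at hx ⊢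
    rwa [map_mul, hcen z hz, one_mul] at hx)
  rw [hs1, mul_one]
  exact hz

variable {k : Type*} [Field k] [CharP k p] [IsAlgClosed k]

/-- The image in `PGL₂` is `PSL₂` over the prime field. -/
theorem Half.range_equiv (hh : Half P χ) {e : ℕ} {R : G →* Matrix (Fin e) (Fin e) k} {n a : G}
    {i : ℕ} (hN : IsNormalForm P e R n a i) (hsq : ¬ p ^ 2 ∣ Nat.card G) (ψ : G →* PG k)
    (hψa : ψ a ≠ 1) (hker : ψ.ker = Subgroup.center G) :
    Nonempty (ψ.range ≃* Matrix.ProjectiveSpecialLinearGroup (Fin 2) (ZMod p)) := by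
  have hp : p.Prime := Fact.out
  have h5 := hh.five_le
  set H := ψ.range
  haveI : Finite H := Finite.of_surjective ψ.rangeRestrict ψ.rangeRestrict_surjective
  have haP := hN.mem_P
  have hmem : ∀ {x : G}, ψ x = 1 → x ∈ Subgroup.center G := fun {x} hx => hker ▸ hx
  have hpdvd : p ∣ Nat.card H := by
    have h1 : orderOf (ψ a) = p := orderOf_eq_prime
      (by rw [← map_pow, hh.pow_eq_one_of_mem haP, map_one]) hψa
    rw [← h1]
    exact Subgroup.orderOf_dvd_natCard H ⟨a, rfl⟩
  have hHdvd : Nat.card H ∣ Nat.card G :=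
    Subgroup.card_dvd_of_surjective ψ.rangeRestrict ψ.rangeRestrict_surjective
  rcases classify p H with h | h | h | h | h | h | h
  · exact absurd hpdvd h.2.1
  · obtain ⟨A, hA2, -, hAp, -⟩ := h
    rw [← A.card_mul_index, hA2] at hpdvd
    rcases hp.dvd_mul.1 hpdvd with h' | h'
    · exact absurd h' hAp
    · have := Nat.le_of_dvd (by omega) h'; omega
  · exfalso
    obtain ⟨-, x, hx⟩ := h
    let U : Subgroup H := unip p H x
    have hU : ∀ h : H, h ∈ U ↔ (h : PG k) ^ p = 1 := fun h => by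
      rw [mem_unip]
      exact ⟨fun h' => h'.2, fun h' => ⟨hx h, h'⟩⟩
    have hUpg : IsPGroup p U := fun h => ⟨1, by
      rw [pow_one]
      exact Subtype.ext (Subtype.ext (by simpa using (hU h.1).1 h.2))⟩
    haveI : Fact p.Prime := ⟨hp⟩
    obtain ⟨j, hj⟩ := hUpg.exists_card_eq
    have hj1 : j ≤ 1 := by
      by_contra hlt
      exact hsq ((pow_dvd_pow p (show 2 ≤ j by omega)).trans
        ((hj ▸ Subgroup.card_subgroup_dvd_card U).trans hHdvd))
    let aH : H := ⟨ψ a, ⟨a, rfl⟩⟩
    have haU : aH ∈ U := (hU aH).2 (by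
      change ψ a ^ p = 1
      rw [← map_pow, hh.pow_eq_one_of_mem haP, map_one])
    have haU1 : (⟨aH, haU⟩ : U) ≠ 1 := fun e1 => hψa (congrArg (fun z : U => ((z : H) : PG k)) e1)
    have hUcard : Nat.card U = p := by
      rcases Nat.le_one_iff_eq_zero_or_eq_one.1 hj1 with hj0 | hj0
      · exfalso
        rw [hj0, pow_zero, Nat.card_eq_one_iff_unique] at hj
        exact haU1 (hj.1.elim _ _)
      · rw [hj, hj0, pow_one]
    refine hh.not_normal ⟨fun y hy g => ?_⟩
    have hgU : (⟨ψ (g * y * g⁻¹), ⟨_, rfl⟩⟩ : H) ∈ U := (hU _).2 (by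
      change ψ (g * y * g⁻¹) ^ p = 1
      rw [← map_pow, conj_pow, hh.pow_eq_one_of_mem hy, mul_one, mul_inv_cancel, map_one])
    obtain ⟨j', hj'⟩ := Subgroup.mem_zpowers_iff.1
      ((zpowers_eq_top_of_prime_card hUcard haU1).symm ▸ Subgroup.mem_top (⟨_, hgU⟩ : U))
    have h1 : ψ a ^ j' = ψ (g * y * g⁻¹) := congrArg (fun z : U => ((z : H) : PG k)) hj'
    have h2 : (a ^ j')⁻¹ * (g * y * g⁻¹) ∈ Subgroup.center G :=
      hmem (by rw [map_mul, map_inv, map_zpow, h1, inv_mul_cancel])
    have h3 := hh.conj_eq_of_mem (hh.pow_eq_one_of_mem hy)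
      (hh.pow_eq_one_of_mem ((P : Subgroup G).zpow_mem haP j')) h2
      (x := g) (by rw [mul_inv_cancel_left])
    rw [h3]
    exact (P : Subgroup G).zpow_mem haP j'
  · exact absurd hpdvd h.1
  · exact absurd hpdvd h.1
  · rcases h.1 with h' | h'
    · exact absurd hpdvd h'
    · omega
  obtain ⟨g₀, E, hE, -, hcase⟩ := h
  haveI := hE
  letI : Fintype E := Fintype.ofFinite E
  haveI : CharP E p := inferInstance
  set f := Matrix.ProjGenLinGroup.map (n := Fin 2) E.subtype
  have hf : Function.Injective f := map_injective_pgl E.subtype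
  set H' := H.map (MulAut.conj g₀⁻¹).toMonoidHom
  let eH : H ≃* H' := H.equivMapOfInjective _ (MulAut.conj g₀⁻¹).injective
  have hsub : ((f.comp (Matrix.SpecialLinearGroup.toPGL : Matrix.SpecialLinearGroup (Fin 2) E →* PG E)).range) ≤
      H' := by
    rcases hcase with hc | ⟨-, hc⟩
    · rw [hc]
      rintro _ ⟨g, rfl⟩
      exact ⟨Matrix.SpecialLinearGroup.toPGL g, rfl⟩
    · rw [hc]
  have htrans : ∀ b : E, f (aff 1 b) ∈ H' := fun b => by
    have hdet : (!![1, b; 0, 1] : Matrix (Fin 2) (Fin 2) E).det = 1 := by simp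
    let T : Matrix.SpecialLinearGroup (Fin 2) E := ⟨!![1, b; 0, 1], hdet⟩
    rw [← upper_eq T b rfl]
    exact hsub ⟨T, rfl⟩
  have hcardE : Nat.card E = p := by
    let τ : Multiplicative E →* H' := MonoidHom.mk' (fun b => ⟨f (aff 1 b.toAdd), htrans _⟩)
      (fun b c => Subtype.ext (by
        change f (aff 1 (b * c).toAdd) = f (aff 1 b.toAdd) * f (aff 1 c.toAdd)
        rw [← map_mul, aff_mul, one_mul, Units.val_one, one_mul, toAdd_mul, add_comm]))
    have hτ : Function.Injective τ := fun b c hbc => by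
      have h1 : f (aff 1 b.toAdd) = f (aff 1 c.toAdd) := congrArg Subtype.val hbc
      exact Multiplicative.toAdd.injective (aff_injective (hf h1)).2
    have h1 : Nat.card E ∣ Nat.card G := by
      have h2 := Subgroup.card_dvd_of_injective τ hτ
      rw [show Nat.card (Multiplicative E) = Nat.card E from Nat.card_congr Multiplicative.toAdd,
        ← Nat.card_congr eH.toEquiv] at h2
      exact h2.trans hHdvd
    obtain ⟨m, hprime, hm⟩ := FiniteField.card E p
    rw [Nat.card_eq_fintype_card, hm] at h1 ⊢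
    have : (m : ℕ) = 1 := by
      by_contra hne
      exact hsq ((pow_dvd_pow p (show 2 ≤ (m : ℕ) by have := m.pos; omega)).trans h1)
    rw [this, pow_one]
  let φ : ZMod p ≃+* E := ZMod.ringEquiv E (by rw [← Nat.card_eq_fintype_card, hcardE])
  rcases hcase with hc | ⟨-, hc⟩
  · exfalso
    obtain ⟨g, hg⟩ := IsCyclic.exists_ofOrder_eq_natCard (α := (ZMod p)ˣ)
    rw [Nat.card_eq_fintype_card, ZMod.card_units] at hg
    set c : Eˣ := Units.map φ.toMonoidHom g
    set m := (g : ZMod p).val with hm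
    have hmE : ((m : ℕ) : E) = (c : E) := by
      rw [← map_natCast φ, hm, ZMod.natCast_zmod_val]
      rfl
    have hin : ∀ y : PG E, ∃ x : G, MulAut.conj g₀⁻¹ (ψ x) = f y := by
      intro y
      have : f y ∈ H' := hc ▸ ⟨y, rfl⟩
      obtain ⟨_, ⟨x, rfl⟩, hx⟩ := this
      exact ⟨x, hx⟩
    generalize hC : MulAut.conj g₀⁻¹ = C at hin
    obtain ⟨x, hx⟩ := hin (aff c 0)
    obtain ⟨t, ht⟩ := hin (aff 1 1)
    have hconj : ψ (x * t * x⁻¹) = ψ t ^ m := by
      apply C.injective
      rw [map_pow, ht, ← map_pow f, aff_translation_pow, mul_one, hmE, map_mul, map_mul, map_inv,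
        map_mul, map_mul, map_inv C, hx, ht, ← map_inv f, ← map_mul, ← map_mul]
      rw [aff_conj, mul_one]
    have htp : ψ t ^ p = 1 := by
      apply C.injective
      rw [map_pow, ht, ← map_pow, translation_pow_char p (1 : E), map_one, map_one]
    have htne : ψ t ≠ 1 := by
      intro h1
      rw [h1, map_one] at ht
      have h2 : aff (1 : Eˣ) (1 : E) = aff 1 0 := by
        rw [aff_one_zero]; exact hf (ht.symm.trans (map_one f).symm)
      exact one_ne_zero (aff_injective h2).2
    -- a lift of order `p`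
    have ht2 : t ^ p ∈ Subgroup.center G := hmem (by rw [map_pow, htp])
    obtain ⟨d, hd, hdp⟩ : ∃ d, ¬ p ∣ d ∧ (t ^ d) ^ p = 1 := by
      obtain ⟨j, d, hd, hjd⟩ :=
        Nat.exists_eq_pow_mul_and_not_dvd (orderOf_pos (t ^ p)).ne' p hp.ne_one
      refine ⟨d, hd, ?_⟩
      have key : ∀ j : ℕ, ∀ z ∈ Subgroup.center G, z ^ p ^ j = 1 → z = 1 := by
        intro j
        induction j with
        | zero => intro z _ h1; simpa using h1
        | succ j ih =>
          intro z hz h1
          refine hh.eq_one_of_center_pow hz (ih _ (Subgroup.pow_mem _ hz p) ?_)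
          rw [← pow_mul, ← pow_succ', h1]
      refine key j _ (by rw [← pow_mul, mul_comm, pow_mul]; exact Subgroup.pow_mem _ ht2 d) ?_
      rw [← pow_mul t d p, mul_comm d p, pow_mul t p d, ← pow_mul, mul_comm d, ← hjd,
        pow_orderOf_eq_one]
    obtain ⟨w, hw⟩ := hh.exists_conj_mem hdp
    set s := w⁻¹ * t ^ d * w with hs
    set y := w⁻¹ * x * w with hy
    have hψs : ψ s ≠ 1 := by
      intro h1
      rw [hs, map_mul, map_mul, map_inv, mul_eq_one_iff_eq_inv, inv_mul_eq_iff_eq_mul,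
        mul_inv_cancel, map_pow] at h1
      have h2 : orderOf (ψ t) = p := orderOf_eq_prime htp htne
      exact hd (h2 ▸ orderOf_dvd_of_pow_eq_one h1)
    have hs1 : s ≠ 1 := fun h1 => hψs (by rw [h1, map_one])
    have hys : y * s * y⁻¹ = s ^ m := by
      have h1 : ψ (y * s * y⁻¹) = ψ (s ^ m) := by
        have e1 : y * s * y⁻¹ = w⁻¹ * ((x * t * x⁻¹) ^ d) * w := by
          rw [conj_pow, hy, hs]; group
        have e2 : s ^ m = w⁻¹ * ((t ^ m) ^ d) * w := by
          rw [hs]
          have := conj_pow (a := w⁻¹) (b := t ^ d) (i := m)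
          rw [inv_inv] at this
          rw [this, ← pow_mul, ← pow_mul, mul_comm]
        rw [e1, e2, map_mul, map_mul, map_mul, map_mul, map_pow, map_pow, hconj, map_pow]
      exact hh.conj_eq_of_mem (hh.pow_eq_one_of_mem hw)
        (hh.pow_eq_one_of_mem ((P : Subgroup G).pow_mem hw m))
        (hmem (x := (s ^ m)⁻¹ * (y * s * y⁻¹)) (by rw [map_mul, map_inv, h1, inv_mul_cancel]))
        (x := y) (by rw [mul_inv_cancel_left])
    have hyN : y ∈ nor P := hh.unif.mem_nor hw hs1 (hys ▸ (P : Subgroup G).pow_mem hw m)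
    obtain ⟨r, z, hz, s', hs', hyr⟩ := hN.gen y hyN
    have hconjn : ∀ r : ℕ, n ^ r * s * (n ^ r)⁻¹ = s ^ (i ^ r) := by
      have hn1 : n * s * n⁻¹ = s ^ i := by
        have hne : (⟨a, haP⟩ : (P : Subgroup G)) ≠ 1 := fun e1 => hψa (by
          rw [show a = 1 from congrArg Subtype.val e1, map_one])
        obtain ⟨l, hl⟩ := Subgroup.mem_zpowers_iff.1
          ((zpowers_eq_top_of_prime_card hh.card_P hne).symm ▸
            Subgroup.mem_top (⟨s, hw⟩ : (P : Subgroup G)))
        rw [← (show a ^ l = s from congrArg Subtype.val hl), ← conj_zpow, hN.conj_eq,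
          ← zpow_natCast, ← zpow_natCast, ← zpow_mul, ← zpow_mul, mul_comm]
      intro r
      induction r with
      | zero => simp
      | succ r ih =>
        rw [pow_succ' n, _root_.mul_inv_rev, show n * n ^ r * s * ((n ^ r)⁻¹ * n⁻¹) =
          n * (n ^ r * s * (n ^ r)⁻¹) * n⁻¹ by simp only [mul_assoc], ih, ← conj_pow, hn1,
          ← pow_mul, pow_succ']
    have h1 : s ^ m = s ^ (i ^ r) := by
      rw [← hys, ← hconjn r, hyr]
      have c1 : Commute z (s' * s * s'⁻¹) := (Subgroup.mem_center_iff.1 hz _).symm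
      have c2 : s' * s * s'⁻¹ = s := by
        rw [← Subgroup.mem_centralizer_iff.1 (hh.unif.le_cen hs') s hw, mul_inv_cancel_right]
      rw [c2] at c1
      rw [show n ^ r * z * s' * s * (n ^ r * z * s')⁻¹ =
        n ^ r * (z * (s' * s * s'⁻¹) * z⁻¹) * (n ^ r)⁻¹ by group, c2, c1.eq, mul_inv_cancel_right]
    have hord : orderOf s = p := orderOf_eq_prime (hh.pow_eq_one_of_mem hw) hs1
    rw [pow_eq_pow_iff_modEq, hord, ← ZMod.natCast_eq_natCast_iff, hm, ZMod.natCast_zmod_val,
      Nat.cast_pow] at h1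
    have hie : (i : ZMod p) ^ e = 1 := by
      have h2 := (hN.prim e).2 dvd_rfl
      rw [← Nat.cast_pow, ← Nat.cast_one (R := k), CharP.natCast_eq_natCast k p,
        ← ZMod.natCast_eq_natCast_iff, Nat.cast_pow, Nat.cast_one] at h2
      exact h2
    have h3 : g ^ e = 1 := by
      refine Units.ext ?_
      rw [Units.val_pow_eq_pow_val, h1, ← pow_mul, mul_comm, pow_mul, hie, one_pow, Units.val_one]
    have h4 := Nat.le_of_dvd (by have := hN.deg; omega) (orderOf_dvd_of_pow_eq_one h3)
    have := hN.deg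
    omega
  · have hrange : H' = (f.comp (toPG (K := E))).range := by
      rw [hc, MonoidHom.range_comp, range_toPGL_eq, ← MonoidHom.range_comp]
    obtain ⟨eψ⟩ := nonempty_pslEquiv φ.symm
    exact ⟨eH.trans (((MulEquiv.subgroupCongr hrange).trans
      (MonoidHom.ofInjective (f := f.comp (toPG (K := E))) (hf.comp toPG_injective)).symm).trans
        eψ)⟩

/-- A group with a faithful character of degree `(p - 1) / 2` and no normal subgroup of order `p`
is `PSL₂(p)` modulo its center. -/
theorem nonempty_quotient_center_equiv {G : Type u} [Group G] [Finite G] (p : ℕ) [Fact p.Prime]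
    (hdiv : p ∣ Nat.card G) (hsq : ¬ p ^ 2 ∣ Nat.card G)
    (hnn : ∀ H : Subgroup G, H.Normal → Nat.card H ≠ p) (χ : G → ℂ)
    (hχ : Cfsg.IsCharacter G χ) (hfaith : ∀ g : G, χ g = χ 1 → g = 1)
    (hdeg : 2 * degree χ + 1 = p) :
    Nonempty ((G ⧸ Subgroup.center G) ≃*
      Matrix.ProjectiveSpecialLinearGroup (Fin 2) (ZMod p)) := by
  cases nonempty_fintype G
  obtain ⟨P, hh⟩ := exists_half hdiv hsq hnn hχ hfaith hdeg
  obtain ⟨O, hO, R, n, a, i, β, v, hR⟩ := hh.exists_reduced
  haveI : CharP (IsLocalRing.ResidueField O) p :=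
    (CharP.charP_iff_prime_eq_zero (Fact.out : p.Prime)).2 (by
      have := LatticeFix.residue_natCast_eq_zero hO
      rwa [map_natCast] at this)
  haveI : IsAlgClosed (IsLocalRing.ResidueField O) := isAlgClosed_residueField O
  obtain ⟨R', hN⟩ := exists_normalForm hR
  obtain ⟨ψ, hψa, hψz⟩ := hN.exists_hom
  have hker := hh.ker_eq_center ψ hψz hN.mem_P hψa
  obtain ⟨e⟩ := hh.range_equiv hN hsq ψ hψa hker
  exact ⟨((QuotientGroup.quotientMulEquivOfEq hker.symm).trans
    (QuotientGroup.quotientKerEquivRange ψ)).trans e⟩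

end CfsgLib.HalfDegree
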