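import Cfsg.Agent.Lib.PSL2Sub.Mobius
import Mathlib.LinearAlgebra.Matrix.Trace

/-!
# Isometries of the traceless two by two matrices and `PGL₂`
-/

set_option autoImplicit false

open scoped Classical

namespace CfsgLib.HalfDegree

open Matrix CfsgLib.PSL2Sub

variable {k : Type*} [Field k]

local notation "M₂" => Matrix (Fin 2) (Fin 2) k

theorem traceless_eq {A : M₂} (hA : A.trace = 0) : A = !![A 0 0, A 0 1; A 1 0, -A 0 0] := by
  rw [Matrix.trace_fin_two] at hA
  ext r c
  fin_cases r <;> fin_cases c <;> first | rfl | (simp; linear_combination hA)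

theorem traceless_combination {A : M₂} (hA : A.trace = 0) :
    A = A 0 1 • !![0, 1; 0, 0] + A 0 0 • !![1, 0; 0, -1] + A 1 0 • !![0, 0; 1, 0] := by
  conv_lhs => rw [traceless_eq hA]
  ext r c
  fin_cases r <;> fin_cases c <;> simp

/-- An isometry of the traceless matrices is a conjugation up to sign. -/
theorem exists_conj_of_isometry (h2 : (2 : k) ≠ 0) (L : M₂ →ₗ[k] M₂)
    (hL0 : ∀ A : M₂, A.trace = 0 → (L A).trace = 0)
    (hL : ∀ A B : M₂, A.trace = 0 → B.trace = 0 → (L A * L B).trace = (A * B).trace) :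
    ∃ (M : GL (Fin 2) k) (ε : k), ε * ε = 1 ∧
      ∀ A : M₂, A.trace = 0 → L A * (M : M₂) = ε • ((M : M₂) * A) := by
  have tE : (!![0, 1; 0, 0] : M₂).trace = 0 := by simp [Matrix.trace_fin_two]
  have tH : (!![1, 0; 0, -1] : M₂).trace = 0 := by simp [Matrix.trace_fin_two]
  have tF : (!![0, 0; 1, 0] : M₂).trace = 0 := by simp [Matrix.trace_fin_two]
  set E : M₂ := !![0, 1; 0, 0]
  set H : M₂ := !![1, 0; 0, -1]
  set F : M₂ := !![0, 0; 1, 0]
  set N := L E with hN
  obtain ⟨a, b, c, hNe⟩ : ∃ a b c : k, N = !![a, b; c, -a] := ⟨_, _, _, traceless_eq (hL0 E tE)⟩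
  have hNsq : a * a + b * c = 0 := by
    have := hL E E tE tE
    rw [← hN, hNe] at this
    simp [E, Matrix.trace_fin_two, Matrix.mul_apply, Fin.sum_univ_two] at this
    refine (mul_eq_zero.1 (show (2 : k) * (a * a + b * c) = 0 by linear_combination this)).resolve_left h2
  have hN0 : b ≠ 0 ∨ c ≠ 0 := by
    by_contra hcon
    push Not at hcon
    obtain ⟨hb, hc⟩ := hcon
    have ha : a = 0 := by
      rw [hb, zero_mul, add_zero] at hNsq
      exact mul_self_eq_zero.1 hNsq
    have := hL E F tE tF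
    have hz : N = 0 := by
      rw [hNe, ha, hb, hc]
      ext r s
      fin_cases r <;> fin_cases s <;> simp
    rw [← hN, hz, zero_mul, Matrix.trace_zero] at this
    simp [E, F, Matrix.trace_fin_two] at this
  obtain ⟨Q, hQ⟩ : ∃ Q : GL (Fin 2) k, N * (Q : M₂) = (Q : M₂) * E := by
    rcases eq_or_ne c 0 with hc | hc
    · have hb : b ≠ 0 := hN0.resolve_right (not_not.2 hc)
      have ha : a = 0 := by
        rw [hc, mul_zero, add_zero] at hNsq
        exact mul_self_eq_zero.1 hNsq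
      refine ⟨mkMat b 0 0 1 (by simpa using hb), ?_⟩
      rw [coe_mkMat, hNe, ha, hc]
      ext r s
      fin_cases r <;> fin_cases s <;> simp [E, Matrix.mul_apply, Fin.sum_univ_two]
    · refine ⟨mkMat a 1 c 0 (by simpa using hc), ?_⟩
      rw [coe_mkMat, hNe]
      ext r s
      fin_cases r <;> fin_cases s <;> simp [E, Matrix.mul_apply, Fin.sum_univ_two]
      · linear_combination hNsq
      · ring
  -- fix `E`
  set L₁ : M₂ →ₗ[k] M₂ := (LinearMap.mulLeft k ((Q⁻¹ : GL (Fin 2) k) : M₂)).comp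
    ((LinearMap.mulRight k (Q : M₂)).comp L) with hL₁
  have hL₁a : ∀ A, L₁ A = ((Q⁻¹ : GL (Fin 2) k) : M₂) * (L A * (Q : M₂)) := fun A => rfl
  have hback : ∀ A, L A * (Q : M₂) = (Q : M₂) * L₁ A := fun A => by
    rw [hL₁a, ← mul_assoc (Q : M₂), ← Units.val_mul, mul_inv_cancel, Units.val_one, one_mul]
  have h10 : ∀ A : M₂, A.trace = 0 → (L₁ A).trace = 0 := fun A hA => by
    rw [hL₁a, Matrix.trace_mul_comm, mul_assoc, ← Units.val_mul, mul_inv_cancel, Units.val_one,
      mul_one, hL0 A hA]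
  have h11 : ∀ A B : M₂, A.trace = 0 → B.trace = 0 → (L₁ A * L₁ B).trace = (A * B).trace := by
    intro A B hA hB
    rw [← hL A B hA hB, hL₁a, mul_assoc, mul_assoc (L A), ← hback,
      Matrix.trace_mul_comm, mul_assoc, mul_assoc, ← Units.val_mul, mul_inv_cancel, Units.val_one,
      mul_one]
  have hE1 : L₁ E = E := by
    rw [hL₁a, ← hN, hQ, ← mul_assoc, ← Units.val_mul, inv_mul_cancel, Units.val_one, one_mul]
  obtain ⟨y, x, z, hFe⟩ : ∃ y x z : k, L₁ F = !![y, x; z, -y] :=
    ⟨_, _, _, traceless_eq (h10 F tF)⟩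
  have hz : z = 1 := by
    have := h11 E F tE tF
    rw [hE1, hFe] at this
    simpa [E, F, Matrix.trace_fin_two, Matrix.mul_apply, Fin.sum_univ_two] using this
  have hy : y * y + x = 0 := by
    have := h11 F F tF tF
    rw [hFe, hz] at this
    simp [F, Matrix.trace_fin_two, Matrix.mul_apply, Fin.sum_univ_two] at this
    exact (mul_eq_zero.1 (show (2 : k) * (y * y + x) = 0 by linear_combination this)).resolve_left h2
  set U : GL (Fin 2) k := mkMat 1 y 0 1 (by simp) with hU
  set U' : GL (Fin 2) k := mkMat 1 (-y) 0 1 (by simp) with hU'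
  have hUU : (U : M₂) * (U' : M₂) = 1 ∧ (U' : M₂) * (U : M₂) = 1 := by
    constructor <;> rw [hU, hU', coe_mkMat, coe_mkMat] <;> ext r s <;> fin_cases r <;> fin_cases s <;>
      simp [Matrix.mul_apply, Fin.sum_univ_two]
  set L₂ : M₂ →ₗ[k] M₂ :=
    (LinearMap.mulLeft k (U' : M₂)).comp ((LinearMap.mulRight k (U : M₂)).comp L₁) with hL₂
  have hL₂a : ∀ A, L₂ A = (U' : M₂) * (L₁ A * (U : M₂)) := fun A => rfl
  have hback₂ : ∀ A, L₁ A * (U : M₂) = (U : M₂) * L₂ A := fun A => by
    rw [hL₂a, ← mul_assoc (U : M₂), hUU.1, one_mul]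
  have hE2 : L₂ E = E := by
    rw [hL₂a, hE1, hU, hU', coe_mkMat, coe_mkMat]
    ext r s
    fin_cases r <;> fin_cases s <;> simp [E, Matrix.mul_apply, Fin.sum_univ_two]
  have hF2 : L₂ F = F := by
    rw [hL₂a, hFe, hz, hU, hU', coe_mkMat, coe_mkMat]
    ext r s
    fin_cases r <;> fin_cases s <;> simp [F, Matrix.mul_apply, Fin.sum_univ_two]
    linear_combination hy
  have h20 : (L₂ H).trace = 0 := by
    rw [hL₂a, Matrix.trace_mul_comm, mul_assoc, hUU.1, mul_one, h10 H tH]
  have h21 : ∀ A B : M₂, A.trace = 0 → B.trace = 0 → (L₂ A * L₂ B).trace = (A * B).trace := by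
    intro A B hA hB
    rw [← h11 A B hA hB, hL₂a, mul_assoc, mul_assoc (L₁ A), ← hback₂,
      Matrix.trace_mul_comm, mul_assoc, mul_assoc, hUU.1, mul_one]
  obtain ⟨y', x', z', hHe⟩ : ∃ y' x' z' : k, L₂ H = !![y', x'; z', -y'] :=
    ⟨_, _, _, traceless_eq h20⟩
  have hz' : z' = 0 := by
    have := h21 E H tE tH
    rw [hE2, hHe] at this
    simpa [E, H, Matrix.trace_fin_two, Matrix.mul_apply, Fin.sum_univ_two] using this
  have hx' : x' = 0 := by
    have := h21 F H tF tH
    rw [hF2, hHe] at this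
    simpa [F, H, Matrix.trace_fin_two, Matrix.mul_apply, Fin.sum_univ_two] using this
  have hy' : y' = 1 ∨ y' = -1 := by
    have := h21 H H tH tH
    rw [hHe, hx', hz'] at this
    simp [H, Matrix.trace_fin_two, Matrix.mul_apply, Fin.sum_univ_two] at this
    exact mul_self_eq_one_iff.1 (mul_left_cancel₀ h2 (by linear_combination this))
  obtain ⟨D, ε, hε, hD⟩ : ∃ (D : GL (Fin 2) k) (ε : k), ε * ε = 1 ∧
      ∀ A : M₂, A.trace = 0 → L₂ A * (D : M₂) = ε • ((D : M₂) * A) := by
    rcases hy' with hy1 | hy1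
    · refine ⟨1, 1, one_mul 1, fun A hA => ?_⟩
      conv_lhs => rw [traceless_combination hA]
      rw [map_add, map_add, map_smul, map_smul, map_smul, hE2, hF2, hHe, hy1, hx', hz', Units.val_one,
        one_smul, one_mul, mul_one]
      exact (traceless_combination hA).symm
    · refine ⟨mkMat 1 0 0 (-1) (by simp), -1, by ring, fun A hA => ?_⟩
      conv_lhs => rw [traceless_combination hA]
      rw [map_add, map_add, map_smul, map_smul, map_smul, hE2, hF2, hHe, hy1, hx', hz', coe_mkMat]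
      conv_rhs => rw [traceless_combination hA]
      ext r s
      fin_cases r <;> fin_cases s <;> simp [E, F, Matrix.mul_apply, Fin.sum_univ_two]
  refine ⟨Q * U * D, ε, hε, fun A hA => ?_⟩
  rw [Units.val_mul, Units.val_mul, ← mul_assoc, ← mul_assoc, hback, mul_assoc (Q : M₂), hback₂,
    mul_assoc (Q : M₂), mul_assoc (U : M₂), hD A hA, mul_smul_comm, mul_smul_comm]
  simp only [mul_assoc]

/-- A matrix intertwining the identity with a signed identity is scalar. -/
theorem mk_eq_one_of_conj (h2 : (2 : k) ≠ 0) {M : GL (Fin 2) k} {ε : k}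
    (h : ∀ A : M₂, A.trace = 0 → A * (M : M₂) = ε • ((M : M₂) * A)) :
    ProjGenLinGroup.mk M = 1 := by
  have e1 := h !![0, 1; 0, 0] (by simp [Matrix.trace_fin_two])
  have e2 := h !![1, 0; 0, -1] (by simp [Matrix.trace_fin_two])
  have e3 := h !![0, 0; 1, 0] (by simp [Matrix.trace_fin_two])
  have hdet : (M : M₂).det ≠ 0 := Matrix.GeneralLinearGroup.det_ne_zero M
  rw [Matrix.det_fin_two] at hdet
  have a00 := congrFun (congrFun e1 0) 0
  have a01 := congrFun (congrFun e1 0) 1
  have a11 := congrFun (congrFun e1 1) 1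
  have b00 := congrFun (congrFun e2 0) 0
  have b01 := congrFun (congrFun e2 0) 1
  have c00 := congrFun (congrFun e3 0) 0
  have c10 := congrFun (congrFun e3 1) 0
  have c11 := congrFun (congrFun e3 1) 1
  simp [Matrix.mul_apply, Fin.sum_univ_two] at a00 a01 a11 b00 b01 c00 c10 c11
  have h10 : (M : M₂) 1 0 = 0 := a00
  have h01 : (M : M₂) 0 1 = 0 := c11
  have h00 : (M : M₂) 0 0 ≠ 0 := fun h0 => hdet (by rw [h0, h01]; ring)
  have h11 : (M : M₂) 1 1 ≠ 0 := fun h0 => hdet (by rw [h0, h01]; ring)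
  have hε : ε = 1 := by
    refine mul_right_cancel₀ h00 ?_
    linear_combination -b00
  refine mk_eq_one_of_entries (by exact h01) (by exact h10) ?_
  show (M : M₂) 0 0 = (M : M₂) 1 1
  rw [hε, one_mul] at a01
  exact a01.symm

theorem mk_smul_left {M : GL (Fin 2) k} (hM : ProjGenLinGroup.mk M = 1) (A : M₂) :
    A * (M : M₂) = (M : M₂) * A := by
  rw [← MonoidHom.mem_ker, ProjGenLinGroup.ker_mk,
    Matrix.GeneralLinearGroup.center_eq_range_scalar] at hM
  obtain ⟨u, rfl⟩ := hM
  exact ((Matrix.scalar_commute (u : k) (fun r => Commute.all _ _) A).eq).symm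

/-- A representation on traceless matrices by isometries gives a homomorphism to `PGL₂`. -/
theorem exists_hom_PG {G : Type*} [Group G] (h2 : (2 : k) ≠ 0) (L : G → (M₂ →ₗ[k] M₂))
    (hone : ∀ A : M₂, A.trace = 0 → L 1 A = A)
    (hmul : ∀ g h (A : M₂), A.trace = 0 → L (g * h) A = L g (L h A))
    (hL0 : ∀ g (A : M₂), A.trace = 0 → (L g A).trace = 0)
    (hL : ∀ g (A B : M₂), A.trace = 0 → B.trace = 0 → (L g A * L g B).trace = (A * B).trace) :
    ∃ ψ : G →* PG k, ∀ g, ψ g = 1 ↔ ∃ ε : k, ε * ε = 1 ∧ ∀ A : M₂, A.trace = 0 → L g A = ε • A := by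
  choose M ε hε hM using fun g => exists_conj_of_isometry h2 (L g) (hL0 g) (hL g)
  have hval : ∀ (g : G) (A : M₂), A.trace = 0 →
      L g A = ε g • ((M g : M₂) * A * ((M g)⁻¹ : GL (Fin 2) k)) := fun g A hA => by
    rw [← smul_mul_assoc, ← hM g A hA, mul_assoc, ← Units.val_mul, mul_inv_cancel, Units.val_one,
      mul_one]
  have hε0 : ∀ g, ε g ≠ 0 := fun g h0 => by simpa [h0] using hε g
  have hmk : ∀ g h, ProjGenLinGroup.mk (M (g * h)) =
      ProjGenLinGroup.mk (M g) * ProjGenLinGroup.mk (M h) := by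
    intro g h
    rw [← map_mul, ← inv_mul_eq_one, ← map_inv, ← map_mul]
    refine mk_eq_one_of_conj h2 (ε := (ε (g * h))⁻¹ * (ε g * ε h)) fun A hA => ?_
    have e1 := hmul g h A hA
    rw [hval (g * h) A hA, hval h A hA, map_smul, hval g _ (by
      rw [Matrix.trace_mul_comm, ← mul_assoc, ← Units.val_mul, inv_mul_cancel, Units.val_one,
        one_mul, hA])] at e1
    have e2 := congrArg (fun X => (ε (g * h))⁻¹ • (((M (g * h))⁻¹ : GL (Fin 2) k) : M₂) *
      X * ((M g : M₂) * (M h : M₂))) e1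
    simp only [smul_mul_assoc, mul_smul_comm, smul_smul, mul_assoc] at e2
    rw [Units.inv_mul_cancel_left, mul_inv_cancel₀ (hε0 (g * h)), one_smul] at e2
    rw [Units.val_mul, Units.val_mul]
    simp only [mul_assoc] at e2 ⊢
    rw [e2]
    simp only [Units.inv_mul_cancel_left, Units.inv_mul, mul_one]
    congr 1
    ring
  let ψ : G →* PG k := MonoidHom.mk' (fun g => ProjGenLinGroup.mk (M g)) hmk
  refine ⟨ψ, fun g => ⟨fun hg => ⟨ε g, hε g, fun A hA => ?_⟩, ?_⟩⟩
  · rw [hval g A hA, ← mk_smul_left (show ProjGenLinGroup.mk (M g) = 1 from hg) A,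
      mul_assoc, ← Units.val_mul, mul_inv_cancel, Units.val_one, mul_one]
  · rintro ⟨δ, hδ, hA⟩
    refine mk_eq_one_of_conj h2 (ε := δ * ε g) fun A hA0 => ?_
    have e1 := hM g A hA0
    rw [hA A hA0, smul_mul_assoc] at e1
    have e2 := congrArg (fun X => δ • X) e1
    simp only [smul_smul, hδ, one_smul] at e2
    exact e2

end CfsgLib.HalfDegree
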