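import Cfsg.Agent.Lib.LatticeFix.Core

/-!
# Sums over the cosets of the normalizer of a subgroup of prime order, and the adjoint action
-/

set_option autoImplicit false

open scoped Classical

namespace CfsgLib.HalfDegree

universe u v w

variable {G : Type u} [Group G] [Fintype G] {p : ℕ} [hp : Fact p.Prime] {P : Sylow p G}
variable {k : Type v} [Field k] [CharP k p]

local notation "N" => Subgroup.normalizer ((P : Subgroup G) : Set G)

/-- The sum over `P` is the power `p - 1` of `τ u - 1`. -/
theorem sum_P_eq_zero {A : Type*} [Ring A] (hA : (p : A) = 0)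
    (hP : Nat.card (P : Subgroup G) = p) (τ : G →* A)
    (hnil : ∀ s ∈ (P : Subgroup G), (τ s - 1) ^ (p - 1) = 0) :
    ∑ s : (P : Subgroup G), τ (s : G) = 0 := by
  have : Nontrivial (P : Subgroup G) := by
    rw [← Finite.one_lt_card_iff_nontrivial, hP]; exact hp.out.one_lt
  obtain ⟨x, hx⟩ := exists_ne (1 : (P : Subgroup G))
  have hx' : orderOf x = p := orderOf_eq_prime (by
    have h := pow_card_eq_one' (x := x)
    rwa [hP] at h) hx
  have hinj : Set.InjOn (fun j : ℕ => x ^ j) (Finset.range p : Set ℕ) := by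
    intro a ha b hb e
    exact pow_injOn_Iio_orderOf (by simpa [hx'] using ha) (by simpa [hx'] using hb) e
  have himg : (Finset.range p).image (fun j : ℕ => x ^ j) = Finset.univ := by
    refine Finset.eq_univ_of_card _ ?_
    rw [Finset.card_image_of_injOn hinj, Finset.card_range, ← Nat.card_eq_fintype_card, hP]
  rw [← himg, Finset.sum_image hinj]
  simp only [SubmonoidClass.coe_pow, map_pow]
  rw [LatticeFix.geom_sum_eq_sub_one_pow (p := p) hA]
  exact hnil x x.2

/-- In a sum over the cosets of the normalizer, all cosets but one cancel in orbits of `P`. -/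
theorem sum_coset_eq (hP : Nat.card (P : Subgroup G) = p) {M : Type w} [AddCommGroup M] [Module k M]
    (τ : G →* Module.End k M) (hsum : ∑ s : (P : Subgroup G), τ (s : G) = 0)
    (F : G ⧸ (N) → M) (hF : ∀ s ∈ (P : Subgroup G), ∀ c : G ⧸ (N), F (s • c) = τ s (F c)) :
    ∑ c, F c = F ((1 : G) : G ⧸ (N)) := by
  have hfree : ∀ c : G ⧸ (N), c ≠ ((1 : G) : G ⧸ (N)) → ∀ s : (P : Subgroup G), s • c = c →
      s = 1 := by
    intro c hc s hs
    by_contra hs1
    apply hc
    induction c using QuotientGroup.induction_on with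
    | H g =>
      have h1 : g⁻¹ * (s : G) * g ∈ N := by
        have h2 : (((s : G) * g : G) : G ⧸ (N)) = (g : G ⧸ (N)) := hs
        have h3 := QuotientGroup.eq.1 h2.symm
        simpa [mul_assoc] using h3
      have h2 : g⁻¹ * (s : G) * g ∈ (P : Subgroup G) := by
        refine LatticeFix.mem_of_pElem_normalizer P h1 ⟨1, ?_⟩
        have h4 : s ^ p = 1 := by
          have h := pow_card_eq_one' (x := s)
          rwa [hP] at h
        rw [pow_one, show g⁻¹ * (s : G) * g = g⁻¹ * (s : G) * (g⁻¹)⁻¹ by rw [inv_inv], conj_pow,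
          ← SubmonoidClass.coe_pow, h4]
        simp
      have hgen : ∀ t : (P : Subgroup G), t ∈ Subgroup.zpowers s := fun t => by
        rw [zpowers_eq_top_of_prime_card hP hs1]
        exact Subgroup.mem_top t
      have hg : g⁻¹ ∈ N := by
        rw [Subgroup.mem_normalizer_iff]
        have hle : (P : Subgroup G).map (MulAut.conj g⁻¹).toMonoidHom ≤ (P : Subgroup G) := by
          rintro _ ⟨t, ht, rfl⟩
          obtain ⟨j, hj⟩ := Subgroup.mem_zpowers_iff.1 (hgen ⟨t, ht⟩)
          have h5 : (s : G) ^ j = t := congrArg Subtype.val hj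
          rw [← h5]
          simp only [MulEquiv.coe_toMonoidHom, map_zpow, MulAut.conj_apply, inv_inv]
          exact zpow_mem h2 j
        have heq := Subgroup.eq_of_le_of_card_ge hle (Nat.card_congr
          ((P : Subgroup G).equivMapOfInjective (MulAut.conj g⁻¹).toMonoidHom
            (MulAut.conj g⁻¹).injective).toEquiv).le
        intro y
        constructor
        · exact fun hy => hle ⟨y, hy, rfl⟩
        · intro hy
          obtain ⟨z, hz, hzy⟩ : g⁻¹ * y * g⁻¹⁻¹ ∈
              (P : Subgroup G).map (MulAut.conj g⁻¹).toMonoidHom := by rw [heq]; exact hy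
          have : z = y := (MulAut.conj g⁻¹).injective hzy
          exact this ▸ hz
      exact QuotientGroup.eq.2 (by simpa using hg)
  let act : MulAction (P : Subgroup G) {c : G ⧸ (N) // c ≠ ((1 : G) : G ⧸ (N))} :=
    { smul := fun s c => ⟨(s : G) • c.1, fun e => c.2 (by
        have hsN : ((s : G)⁻¹ : G) ∈ N :=
          Subgroup.le_normalizer ((P : Subgroup G).inv_mem s.2)
        rw [← inv_smul_smul (s : G) c.1, e]
        exact QuotientGroup.eq.2 (by simpa using hsN))⟩
      one_smul := fun c => Subtype.ext (one_smul G c.1)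
      mul_smul := fun s t c => Subtype.ext (mul_smul (s : G) (t : G) c.1) }
  have hzero : ∑ c : {c : G ⧸ (N) // c ≠ ((1 : G) : G ⧸ (N))}, F c.1 = 0 := by
    let Ω := Quotient (MulAction.orbitRel (P : Subgroup G)
      {c : G ⧸ (N) // c ≠ ((1 : G) : G ⧸ (N))})
    let e : Ω × (P : Subgroup G) → {c : G ⧸ (N) // c ≠ ((1 : G) : G ⧸ (N))} :=
      fun z => z.2 • z.1.out
    have he : Function.Bijective e := by
      constructor
      · rintro ⟨a, s⟩ ⟨b, t⟩ h
        simp only [e] at h
        have hab : a = b := by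
          rw [← a.out_eq, ← b.out_eq]
          refine Quotient.sound ⟨s⁻¹ * t, ?_⟩
          change (s⁻¹ * t) • b.out = a.out
          rw [mul_smul, ← h, inv_smul_smul]
        subst hab
        have h1 : (t⁻¹ * s) • a.out = a.out := by
          rw [mul_smul]
          exact inv_smul_eq_iff.2 h
        have := hfree a.out.1 a.out.2 (t⁻¹ * s) (congrArg Subtype.val h1)
        rw [inv_mul_eq_one.1 this]
      · intro c
        obtain ⟨s, hs⟩ := Quotient.mk_out (s := MulAction.orbitRel (P : Subgroup G)
          {c : G ⧸ (N) // c ≠ ((1 : G) : G ⧸ (N))}) c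
        exact ⟨(⟦c⟧, s⁻¹), by simp only [e]; rw [← hs]; exact inv_smul_smul s c⟩
    rw [← (Equiv.ofBijective e he).sum_comp, Fintype.sum_prod_type]
    refine Finset.sum_eq_zero fun a _ => ?_
    have : ∀ s : (P : Subgroup G), F ((Equiv.ofBijective e he (a, s)).1) =
        τ (s : G) (F a.out.1) := fun s => hF (s : G) s.2 a.out.1
    simp only [this]
    rw [← LinearMap.sum_apply, hsum, LinearMap.zero_apply]
  rw [Fintype.sum_eq_add_sum_subtype_ne F ((1 : G) : G ⧸ (N)), hzero, add_zero]

variable {ι : Type*} [Fintype ι] [DecidableEq ι]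

/-- The adjoint action of a matrix representation. -/
noncomputable def Ad (R : G →* Matrix ι ι k) : G →* Module.End k (Matrix ι ι k) where
  toFun g := LinearMap.mulLeft k (R g) * LinearMap.mulRight k (R g⁻¹)
  map_one' := LinearMap.ext fun A => by simp
  map_mul' g h := LinearMap.ext fun A => by simp [mul_assoc]

@[simp]
theorem Ad_apply (R : G →* Matrix ι ι k) (g : G) (A : Matrix ι ι k) :
    Ad R g A = R g * A * R g⁻¹ := by
  simp [Ad, mul_assoc]

theorem Ad_eq_self_iff (R : G →* Matrix ι ι k) (g : G) (A : Matrix ι ι k) :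
    Ad R g A = A ↔ Commute (R g) A := by
  rw [Ad_apply]
  constructor
  · intro h
    change R g * A = A * R g
    conv_rhs => rw [← h]
    rw [mul_assoc, ← map_mul, inv_mul_cancel, map_one, mul_one]
  · intro h
    rw [h.eq, mul_assoc, ← map_mul, mul_inv_cancel, map_one, mul_one]

theorem Ad_nilpotent (R : G →* Matrix ι ι k) {m : ℕ}
    (hnil : ∀ s ∈ (P : Subgroup G), (R s - 1) ^ m = 0) :
    ∀ s ∈ (P : Subgroup G), (Ad R s - 1) ^ (m + m - 1) = 0 := by
  intro s hs
  have e : Ad R s - 1 = LinearMap.mulLeft k (R s - 1) * LinearMap.mulRight k (R s⁻¹) +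
      LinearMap.mulRight k (R s⁻¹ - 1) := by
    ext A
    simp [sub_mul, mul_sub, mul_assoc]
  have hc : Commute (LinearMap.mulLeft k (R s - 1) * LinearMap.mulRight k (R s⁻¹))
      (LinearMap.mulRight k (R s⁻¹ - 1)) := by
    refine Commute.mul_left (LinearMap.commute_mulLeft_right _ _) ?_
    change _ * _ = _ * _
    ext A
    simp [sub_mul, mul_sub, mul_assoc]
  rw [e]
  refine hc.add_pow_eq_zero_of_add_le_succ_of_pow_eq_zero (m := m) (n := m) ?_ ?_ (by omega)
  · rw [(LinearMap.commute_mulLeft_right _ _).mul_pow, LinearMap.pow_mulLeft, hnil s hs,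
      LinearMap.mulLeft_zero_eq_zero, zero_mul]
  · rw [LinearMap.pow_mulRight, hnil s⁻¹ ((P : Subgroup G).inv_mem hs),
      LinearMap.mulRight_zero_eq_zero]

/-- Under a small nilpotency index, what commutes with the normalizer commutes with the group. -/
theorem commute_of_commute_normalizer (hP : Nat.card (P : Subgroup G) = p) (R : G →* Matrix ι ι k)
    {m : ℕ} (hm : 2 * m ≤ p) (hnil : ∀ s ∈ (P : Subgroup G), (R s - 1) ^ m = 0)
    (A : Matrix ι ι k) (hA : ∀ n ∈ N, Commute (R n) A) (g : G) : Commute (R g) A := by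
  have hfix : ∀ n ∈ N, Ad R n A = A := fun n hn => (Ad_eq_self_iff R n A).2 (hA n hn)
  let F : G ⧸ (N) → Matrix ι ι k := fun c => Ad R c.out A
  have hF : ∀ (g : G) (c : G ⧸ (N)), F (g • c) = Ad R g (F c) := by
    intro g c
    simp only [F]
    rw [← Module.End.mul_apply, ← map_mul]
    have : (g • c) = ((g * c.out : G) : G ⧸ (N)) := by
      conv_lhs => rw [← c.out_eq']
      rfl
    rw [this]
    obtain ⟨n, hn⟩ := QuotientGroup.mk_out_eq_mul (N) (g * c.out)
    rw [hn, map_mul (Ad R) (g * c.out), Module.End.mul_apply, hfix n n.2]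
  have hone : F ((1 : G) : G ⧸ (N)) = A := by
    obtain ⟨n, hn⟩ := QuotientGroup.mk_out_eq_mul (N) (1 : G)
    simp only [F]
    rw [hn, one_mul]
    exact hfix n n.2
  have hsum := sum_coset_eq hP (Ad R) (sum_P_eq_zero (by
      rw [← map_natCast (algebraMap k (Module.End k (Matrix ι ι k))), CharP.cast_eq_zero, map_zero])
      hP (Ad R) fun s hs => pow_eq_zero_of_le (by omega) (Ad_nilpotent R hnil s hs))
    F fun s _ c => hF s c
  rw [hone] at hsum
  rw [← Ad_eq_self_iff]
  conv_rhs => rw [← hsum]
  conv_lhs => rw [← hsum]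
  rw [map_sum]
  exact Fintype.sum_equiv (MulAction.toPerm g) _ _ fun c => (hF g c).symm

end CfsgLib.HalfDegree
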