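import Mathlib.LinearAlgebra.Trace
import Mathlib.LinearAlgebra.Matrix.ToLin
import Mathlib.LinearAlgebra.Eigenspace.Zero
import Mathlib.Algebra.CharP.Basic

/-!
# Idempotents in characteristic `p` on spaces of dimension less than `p`
-/

set_option autoImplicit false

namespace CfsgLib.HalfDegree

variable {k : Type*} [Field k] {p : ℕ} [CharP k p] {ι : Type*} [Fintype ι] [DecidableEq ι]

/-- The rank of an idempotent is its trace, when both are below the characteristic. -/
theorem finrank_range_of_trace (hι : Fintype.card ι < p) {E : Matrix ι ι k} (hE : E * E = E)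
    {r : ℕ} (hr : r < p) (htr : E.trace = (r : k)) :
    Module.finrank k (LinearMap.range E.mulVecLin) = r := by
  have hproj : LinearMap.IsProj (LinearMap.range E.mulVecLin) E.mulVecLin :=
    ⟨fun v => ⟨v, rfl⟩, by
      rintro _ ⟨v, rfl⟩
      simp [Matrix.mulVec_mulVec, hE]⟩
  have h1 : LinearMap.trace k (ι → k) E.mulVecLin =
      (Module.finrank k (LinearMap.range E.mulVecLin) : k) := hproj.trace
  rw [← Matrix.toLin'_apply', Matrix.trace_toLin'_eq, htr] at h1
  have h2 : Module.finrank k (LinearMap.range E.mulVecLin) < p :=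
    lt_of_le_of_lt (le_trans (Submodule.finrank_le _) (Module.finrank_fintype_fun_eq_card k).le) hι
  exact ((CharP.natCast_injOn_Iio k p) (Set.mem_Iio.2 hr) (Set.mem_Iio.2 h2) h1).symm

/-- A nilpotent matrix commuting with an idempotent of rank `r` has `r`-th power zero there. -/
theorem pow_mul_eq_zero_of_rank {E x : Matrix ι ι k} (hE : E * E = E) (hx : Commute x E)
    (hnil : IsNilpotent x) {r : ℕ} (hr : Module.finrank k (LinearMap.range E.mulVecLin) = r) :
    x ^ r * E = 0 := by
  set W := LinearMap.range E.mulVecLin with hW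
  have hinv : ∀ v ∈ W, x.mulVecLin v ∈ W := by
    rintro _ ⟨v, rfl⟩
    exact ⟨x.mulVec v, by simp [Matrix.mulVec_mulVec, hx.eq]⟩
  set f : Module.End k W := x.mulVecLin.restrict hinv
  have hpow : ∀ (j : ℕ) (v : W), ((f ^ j) v : ι → k) = (x ^ j).mulVec v := by
    intro j
    induction j with
    | zero => intro v; simp
    | succ j ih =>
      intro v
      rw [pow_succ', pow_succ', Module.End.mul_apply, ← Matrix.mulVec_mulVec, ← ih v]
      rfl
  obtain ⟨m, hm⟩ := hnil
  have hf : IsNilpotent f := ⟨m, LinearMap.ext fun v => Subtype.ext (by rw [hpow, hm]; simp)⟩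
  have h0 : f ^ r = 0 := by
    have h1 := f.aeval_self_charpoly
    rw [IsNilpotent.charpoly_eq_X_pow_finrank hf, hr] at h1
    simpa using h1
  refine Matrix.ext_iff_mulVec.2 fun v => ?_
  rw [← Matrix.mulVec_mulVec, Matrix.zero_mulVec]
  have := hpow r ⟨E.mulVec v, v, rfl⟩
  rw [h0] at this
  simpa using this.symm

end CfsgLib.HalfDegree
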