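import Cfsg.Agent.Lib.HalfDegree.Local
import Cfsg.Agent.Lib.HalfDegree.Coset
import Cfsg.Agent.Lib.HalfDegree.Idempotent

/-!
# The centralizer of the Sylow subgroup is `P` times the center
-/

set_option autoImplicit false

open scoped ComplexConjugate Classical

namespace CfsgLib.HalfDegree

universe u

open CfsgLib.Char CfsgLib.SmallDegree

variable {G : Type u} [Group G] [Fintype G] {p : ℕ} [Fact p.Prime] {P : Sylow p G} {χ : G → ℂ}

theorem Half.conj_mem_V (hh : Half P χ) (v : hh.unif.V) (n : nor P)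
    (hc : (n : G) * ((v : cen P) : G) * (n : G)⁻¹ ∈ cen P) :
    (⟨_, hc⟩ : cen P) ∈ hh.unif.V := by
  by_contra hne
  refine (hh.unif.pow_mem _ hne).2 ?_
  change ((n : G) * ((v : cen P) : G) * (n : G)⁻¹) ^ Nat.card hh.unif.V = 1
  rw [conj_pow, ← SubmonoidClass.coe_pow, ← SubmonoidClass.coe_pow, pow_card_eq_one']
  simp

theorem Half.exists_hom (hh : Half P χ) : ∃ f : Cfsg.IrrCharacter (cen P) → (cen P →* ℂˣ),
    ∀ η, mult χ η ≠ 0 → ∀ c, (η : cen P → ℂ) c = (f η c : ℂ) := by
  have : ∀ η : Cfsg.IrrCharacter (cen P), ∃ g : cen P →* ℂˣ,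
      mult χ η ≠ 0 → ∀ c, (η : cen P → ℂ) c = (g c : ℂ) := by
    intro η
    by_cases hη : mult χ η = 0
    · exact ⟨1, fun h => absurd hη h⟩
    · obtain ⟨g, hg⟩ := IsCharacter.exists_linear (IsIrrCharacter.isCharacter η.2) (by
        rw [← IsCharacter.degree_cast (IsIrrCharacter.isCharacter η.2),
          (hh.mult_le_one η hη).2.1, Nat.cast_one])
      exact ⟨g, fun _ => hg⟩
  choose f hf using this
  exact ⟨f, hf⟩

/-- The complement of `P` in its centralizer acts by scalars. -/
theorem Half.hom_V_eq (hh : Half P χ) {f : Cfsg.IrrCharacter (cen P) → (cen P →* ℂˣ)}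
    (hf : ∀ η, mult χ η ≠ 0 → ∀ c, (η : cen P → ℂ) c = (f η c : ℂ))
    {η η' : Cfsg.IrrCharacter (cen P)} (hη : mult χ η ≠ 0) (hη' : mult χ η' ≠ 0) :
    (f η).comp hh.unif.V.subtype = (f η').comp hh.unif.V.subtype := by
  set h := hh.unif
  set e := degree χ with he
  set V := h.V
  set S := Finset.univ.filter fun η : Cfsg.IrrCharacter (cen P) => mult χ η ≠ 0 with hS
  have hSe : S.card = e := hh.card_constituents
  have hmemS : ∀ {η}, η ∈ S ↔ mult χ η ≠ 0 := fun {η} => by simp [hS]
  set lv : Cfsg.IrrCharacter (cen P) → (V →* ℂˣ) := fun η => (f η).comp V.subtype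
  by_contra hne
  -- the classes of `lv` have at most half of the constituents
  have hhalf : ∀ η₀ ∈ S, 2 * (S.filter fun μ => lv μ = lv η₀).card ≤ e := by
    intro η₀ h₀
    obtain ⟨η₁, h₁, hne₁⟩ : ∃ η₁ ∈ S, lv η₁ ≠ lv η₀ := by
      by_contra hcon
      push Not at hcon
      exact hne ((hcon η (hmemS.2 hη)).trans (hcon η' (hmemS.2 hη')).symm)
    -- conjugate one constituent to the other
    have ha : h.lam η₀ ∈ h.supp χ := h.mem_supp.2 ⟨η₀, hmemS.1 h₀, rfl⟩
    obtain ⟨O, hO, hc, horb, -⟩ := h.card_nor_le hh.isChar ha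
      (fun e1 => hh.one_notMem (e1 ▸ ha))
    have hOc : O.card = e := by
      rw [h.card_nor, hh.idx_eq] at hc
      exact (Nat.eq_of_mul_eq_mul_right Nat.card_pos hc).symm
    have hOeq : O = h.supp χ := Finset.eq_of_subset_of_card_le
      (hO.trans (Finset.erase_subset _ _)) (hOc ▸ h.card_supp_le hh.isChar)
    obtain ⟨n, hn⟩ := horb (h.lam η₁) (hOeq ▸ h.mem_supp.2 ⟨η₁, hmemS.1 h₁, rfl⟩)
    have hcen : ∀ c : cen P, (n : G) * c * (n : G)⁻¹ ∈ cen P := fun c => by
      have := h.conj_mem_cen (x := (n : G)⁻¹) ((nor P).inv_mem n.2) c.2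
      simpa using this
    have hcen' : ∀ c : cen P, (n : G)⁻¹ * c * (n : G) ∈ cen P := fun c =>
      h.conj_mem_cen n.2 c.2
    let α : cen P ≃* cen P :=
      { toFun := fun c => ⟨_, hcen c⟩
        invFun := fun c => ⟨_, hcen' c⟩
        left_inv := fun c => Subtype.ext (by simp [mul_assoc])
        right_inv := fun c => Subtype.ext (by simp [mul_assoc])
        map_mul' := fun a b => Subtype.ext (by simp [mul_assoc]) }
    let T : Cfsg.IrrCharacter (cen P) → Cfsg.IrrCharacter (cen P) :=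
      fun μ => ⟨_, IsIrrCharacter.comp_mulEquiv μ.2 α⟩
    have hTinj : Function.Injective T := fun a b hab => Subtype.ext (funext fun c => by
      obtain ⟨d, rfl⟩ := α.surjective c
      exact congrFun (congrArg Subtype.val hab) d)
    have hTmult : ∀ μ, mult χ (T μ) = mult χ μ := by
      intro μ
      have e1 : Cfsg.classInner (fun c : cen P => χ c) (T μ : cen P → ℂ) =
          Cfsg.classInner (fun c : cen P => χ c) (μ : cen P → ℂ) := by
        unfold Cfsg.classInner
        congr 1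
        refine Fintype.sum_equiv α.toEquiv _ _ fun c => ?_
        change χ (c : G) * _ = χ ((n : G) * c * (n : G)⁻¹) * _
        rw [IsCharacter.isClassFunction hh.isChar]
        rfl
      rw [← mult_cast hh.isChar, ← mult_cast hh.isChar] at e1
      exact_mod_cast e1
    have hTlam : ∀ μ, h.lam (T μ) = (h.lam μ).comp (conjP n).toMonoidHom := by
      intro μ
      ext s
      have h1 := h.apply_incl (T μ) s
      have h2 := h.apply_incl μ (conjP n s)
      have e1 : (T μ : cen P → ℂ) (h.incl s) = (μ : cen P → ℂ) (h.incl (conjP n s)) := by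
        change (μ : cen P → ℂ) (α (h.incl s)) = _
        congr 1
      have e2 : (T μ : cen P → ℂ) 1 = (μ : cen P → ℂ) 1 := by
        change (μ : cen P → ℂ) (α 1) = _
        rw [map_one]
      rw [h1, h2, e2] at e1
      exact mul_left_cancel₀ (IsIrrCharacter.apply_one_ne_zero μ.2) e1
    have hTS : ∀ μ, mult χ μ ≠ 0 → mult χ (T μ) ≠ 0 := fun μ hμ => by rwa [hTmult]
    have hTf : ∀ μ, mult χ μ ≠ 0 → ∀ c, f (T μ) c = f μ (α c) := fun μ hμ c => Units.ext (by
      rw [← hf _ (hTS μ hμ), ← hf μ hμ]; rfl)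
    have hT0 : T η₀ = η₁ :=
      (hh.mult_le_one η₁ (hmemS.1 h₁)).2.2 _ (hTS _ (hmemS.1 h₀)) (by rw [hTlam, hn])
    have hTV : ∀ μ, mult χ μ ≠ 0 → lv μ = lv η₀ → lv (T μ) = lv η₁ := by
      intro μ hμ he
      ext v
      have hv : α (v : cen P) ∈ V := hh.conj_mem_V v n (hcen _)
      change ((f (T μ) v : ℂˣ) : ℂ) = (f η₁ v : ℂ)
      rw [← hT0, hTf μ hμ, hTf η₀ (hmemS.1 h₀)]
      exact congrArg Units.val (DFunLike.congr_fun he ⟨_, hv⟩)
    have hle : (S.filter fun μ => lv μ = lv η₀).card ≤ (S.filter fun μ => lv μ = lv η₁).card := by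
      refine Finset.card_le_card_of_injOn T (fun μ hμ => ?_) hTinj.injOn
      rw [Finset.mem_coe, Finset.mem_filter] at hμ ⊢
      exact ⟨hmemS.2 (hTS μ (hmemS.1 hμ.1)), hTV μ (hmemS.1 hμ.1) hμ.2⟩
    have hd : Disjoint (S.filter fun μ => lv μ = lv η₀) (S.filter fun μ => lv μ = lv η₁) :=
      Finset.disjoint_filter.2 fun μ _ a b => hne₁ (b.symm.trans a)
    have h2 := Finset.card_le_card (Finset.union_subset (Finset.filter_subset _ S)
      (Finset.filter_subset _ S) : (S.filter fun μ => lv μ = lv η₀) ∪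
        (S.filter fun μ => lv μ = lv η₁) ⊆ S)
    rw [Finset.card_union_of_disjoint hd, hSe] at h2
    omega
  -- an integral form
  have hp : p.Prime := Fact.out
  obtain ⟨O, hO⟩ := LatticeFix.exists_subring p hp
  obtain ⟨r, σ, htr, hnil⟩ := LatticeFix.exists_integral_of_supp h hh.card_P hO hh.isChar
  have hre : r = e := by
    have h1 := htr 1
    rw [map_one, Matrix.trace_one, Fintype.card_fin, ← IsCharacter.degree_cast hh.isChar] at h1
    exact_mod_cast (show ((r : ℕ) : ℂ) = e by simpa using h1)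
  set K := IsLocalRing.ResidueField O
  haveI : CharP K p := (CharP.charP_iff_prime_eq_zero hp).2 (by
    have := LatticeFix.residue_natCast_eq_zero hO
    rwa [map_natCast] at this)
  set m := Nat.card V with hm
  have hm0 : (m : ℂ) ≠ 0 := Nat.cast_ne_zero.2 Nat.card_pos.ne'
  have hmunit : IsUnit (m : O) := by
    rw [← IsLocalRing.residue_ne_zero_iff_isUnit, map_natCast, Ne, CharP.cast_eq_zero_iff K p]
    exact h.V_coprime
  obtain ⟨c, hc⟩ := hmunit.exists_left_inv
  have hcC : (c : ℂ) = (m : ℂ)⁻¹ := by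
    refine eq_inv_of_mul_eq_one_left ?_
    have := congrArg Subtype.val hc
    simpa using this
  let val : (V →* ℂˣ) → V → O := fun l v =>
    ⟨(l v : ℂ), LatticeFix.root_mem (m := m) Nat.card_pos.ne' (by
      rw [← Units.val_pow_eq_pow_val, ← map_pow, pow_card_eq_one', map_one, Units.val_one])⟩
  let E : (V →* ℂˣ) → Matrix (Fin r) (Fin r) O := fun l =>
    c • ∑ v : V, val l v⁻¹ • σ ((v : cen P) : G)
  let Φ : Matrix (Fin r) (Fin r) O →+* Matrix (Fin r) (Fin r) ℂ := O.subtype.mapMatrix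
  have hΦinj : Function.Injective Φ := Matrix.map_injective O.subtype_injective
  have hΦE : ∀ l, Φ (E l) = (m : ℂ)⁻¹ • ∑ v : V, ((l v⁻¹ : ℂˣ) : ℂ) • Φ (σ ((v : cen P) : G)) := by
    intro l
    rw [← hcC]
    ext a b
    simp [E, Φ, Matrix.sum_apply, val]
  have hshift : ∀ (l : V →* ℂˣ) (w : V),
      Φ (σ ((w : cen P) : G)) * Φ (E l) = ((l w : ℂˣ) : ℂ) • Φ (E l) := by
    intro l w
    rw [hΦE, mul_smul_comm, Finset.mul_sum, smul_comm ((l w : ℂˣ) : ℂ) (m : ℂ)⁻¹,
      Finset.smul_sum (r := ((l w : ℂˣ) : ℂ))]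
    congr 1
    refine Fintype.sum_equiv (Equiv.mulLeft w) _ _ fun v => ?_
    rw [mul_smul_comm, ← map_mul, ← map_mul, smul_smul, Equiv.coe_mulLeft, mul_inv_rev, map_mul l,
      Units.val_mul, mul_left_comm, map_inv l w, Units.val_inv_eq_inv_val,
      mul_inv_cancel₀ (Units.ne_zero _), mul_one]
    rfl
  have hEE : ∀ l l', Φ (E l) * Φ (E l') = if l = l' then Φ (E l') else 0 := by
    intro l l'
    conv_lhs => rw [hΦE l]
    rw [smul_mul_assoc, Finset.sum_mul]
    simp only [smul_mul_assoc, hshift, smul_smul, ← Finset.sum_smul]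
    have h1 : (m : ℂ)⁻¹ * ∑ v : V, ((l v⁻¹ : ℂˣ) : ℂ) * (l' v : ℂ) =
        Cfsg.classInner (fun v => (l' v : ℂ)) (fun v => (l v : ℂ)) := by
      rw [Cfsg.classInner]
      congr 1
      refine Finset.sum_congr rfl fun v _ => ?_
      rw [mul_comm, map_inv, Units.val_inv_eq_inv_val]
      congr 1
      exact inv_eq_of_mul_eq_one_right (hom_mul_conj l v)
    rw [h1, classInner_irr (isIrrCharacter_linear l') (isIrrCharacter_linear l)]
    by_cases hl : l = l'
    · subst hl
      simp
    · rw [if_neg hl, if_neg fun e1 => hl (MonoidHom.ext fun v => Units.ext (congrFun e1 v).symm),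
        zero_smul]
  have htrE : ∀ l, (Φ (E l)).trace = ((S.filter fun μ => lv μ = l).card : ℂ) := by
    intro l
    have h0 : ∀ g : G, (Φ (σ g)).trace = χ g := fun g => by
      rw [← htr g]
      exact (AddMonoidHom.map_trace O.subtype.toAddMonoidHom (σ g)).symm
    rw [hΦE, Matrix.trace_smul, Matrix.trace_sum]
    simp only [Matrix.trace_smul, h0, smul_eq_mul]
    have h1 : (m : ℂ)⁻¹ * ∑ v : V, ((l v⁻¹ : ℂˣ) : ℂ) * χ ((v : cen P) : G) =
        ∑ μ : Cfsg.IrrCharacter (cen P), (mult χ μ : ℂ) *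
          Cfsg.classInner (fun v : V => (μ : cen P → ℂ) v) (fun v => (l v : ℂ)) := by
      simp only [restrict_eq hh.isChar, Finset.mul_sum, Cfsg.classInner]
      rw [Finset.sum_comm]
      refine Finset.sum_congr rfl fun μ _ => Finset.sum_congr rfl fun v _ => ?_
      have : ((l v⁻¹ : ℂˣ) : ℂ) = conj (l v : ℂ) := by
        rw [map_inv, Units.val_inv_eq_inv_val]
        exact inv_eq_of_mul_eq_one_right (hom_mul_conj l v)
      rw [this]
      ring
    rw [h1, Finset.card_eq_sum_ones, Finset.sum_filter, Finset.sum_filter, Nat.cast_sum]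
    refine Finset.sum_congr rfl fun μ _ => ?_
    by_cases hμ : mult χ μ = 0
    · simp [hμ]
    have e1 : (fun v : V => (μ : cen P → ℂ) v) = fun v : V => (lv μ v : ℂ) := by
      funext v
      exact hf μ hμ v
    rw [if_pos hμ, (hh.mult_le_one μ hμ).1, Nat.cast_one, one_mul, e1,
      classInner_irr (isIrrCharacter_linear (lv μ)) (isIrrCharacter_linear l)]
    by_cases hl : lv μ = l
    · simp [hl]
    · rw [if_neg fun e2 => hl (MonoidHom.ext fun v => Units.ext (congrFun e2 v)), if_neg hl,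
        Nat.cast_zero]
  set Λ := S.image lv
  have hsumE : ∑ l ∈ Λ, E l = 1 := by
    apply hΦinj
    rw [map_sum, map_one]
    set F : Matrix (Fin r) (Fin r) ℂ := 1 - ∑ l ∈ Λ, Φ (E l) with hF
    have hsq : (∑ l ∈ Λ, Φ (E l)) * (∑ l ∈ Λ, Φ (E l)) = ∑ l ∈ Λ, Φ (E l) := by
      rw [Finset.sum_mul]
      refine Finset.sum_congr rfl fun l hl => ?_
      rw [Finset.mul_sum, Finset.sum_eq_single l (fun l' _ hl' => by rw [hEE, if_neg (Ne.symm hl')])
        (fun hl' => absurd hl hl'), hEE, if_pos rfl]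
    have hFF : F * F = F := by rw [hF, mul_sub, sub_mul, sub_mul, hsq]; simp
    have hFtr : F.trace = 0 := by
      rw [hF, Matrix.trace_sub, Matrix.trace_one, Fintype.card_fin, Matrix.trace_sum]
      simp only [htrE]
      rw [← Nat.cast_sum, ← Finset.card_eq_sum_card_image, hSe, hre, sub_self]
    have hproj : LinearMap.IsProj (LinearMap.range F.mulVecLin) F.mulVecLin :=
      ⟨fun v => ⟨v, rfl⟩, by
        rintro _ ⟨v, rfl⟩
        simp [Matrix.mulVec_mulVec, hFF]⟩
    have h1 := hproj.trace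
    rw [← Matrix.toLin'_apply', Matrix.trace_toLin'_eq, hFtr, eq_comm, Nat.cast_eq_zero,
      Submodule.finrank_eq_zero, LinearMap.range_eq_bot] at h1
    have h2 : F = 0 := Matrix.toLin'.injective (by rw [h1, map_zero])
    exact (sub_eq_zero.1 h2).symm
  -- the nilpotency index is at most `e / 2`
  have hbound : ∀ s ∈ (P : Subgroup G),
      ((σ s).map (IsLocalRing.residue O) - 1) ^ (e / 2) = 0 := by
    intro s hs
    set R := (IsLocalRing.residue O).mapMatrix (m := Fin r)
    set x := R (σ s) - 1 with hx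
    change x ^ (e / 2) = 0
    have hsum1 : ∑ l ∈ Λ, R (E l) = 1 := by rw [← map_sum, hsumE, map_one]
    rw [← mul_one (x ^ (e / 2)), ← hsum1, Finset.mul_sum]
    refine Finset.sum_eq_zero fun l hl => ?_
    obtain ⟨η₀, h₀, rfl⟩ := Finset.mem_image.1 hl
    have hcomm : Commute (σ s) (E (lv η₀)) := by
      refine (Commute.sum_right _ _ _ fun v _ => ?_).smul_right c
      refine Commute.smul_right ?_ _
      have : Commute s ((v : cen P) : G) := Subgroup.mem_centralizer_iff.1 (v : cen P).2 s hs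
      exact this.map σ
    have hER : R (E (lv η₀)) * R (E (lv η₀)) = R (E (lv η₀)) := by
      rw [← map_mul]
      congr 1
      exact hΦinj (by rw [map_mul, hEE, if_pos rfl])
    have htrR : (R (E (lv η₀))).trace = ((S.filter fun μ => lv μ = lv η₀).card : K) := by
      have h1 : (E (lv η₀)).trace = ((S.filter fun μ => lv μ = lv η₀).card : O) := by
        apply O.subtype_injective
        rw [map_natCast, ← htrE]
        exact AddMonoidHom.map_trace O.subtype.toAddMonoidHom _
      rw [← map_natCast (IsLocalRing.residue O), ← h1]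
      exact (AddMonoidHom.map_trace (IsLocalRing.residue O).toAddMonoidHom _).symm
    have h2 := hhalf η₀ h₀
    have h5 := hh.deg
    have hrank := finrank_range_of_trace (p := p) (by rw [Fintype.card_fin]; omega) hER
      (by omega) htrR
    have hz := pow_mul_eq_zero_of_rank (x := x) hER
      (Commute.sub_left (hcomm.map R) (Commute.one_left _))
      ⟨_, hnil s hs⟩ hrank
    rw [← Nat.sub_add_cancel (show (S.filter fun μ => lv μ = lv η₀).card ≤ e / 2 by omega),
      pow_add, mul_assoc, hz, mul_zero]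
  have h3 := hh.index_bound O hO σ htr (e / 2) hbound
  have h5 := hh.deg
  omega

theorem Half.eq_one_of_mem_center (hh : Half P χ) {x : G} (hx : x ∈ (P : Subgroup G))
    (hz : x ∈ Subgroup.center G) : x = 1 := by
  by_contra hne
  refine hh.not_normal ⟨fun y hy g => ?_⟩
  obtain ⟨j, hj⟩ := Subgroup.mem_zpowers_iff.1
    ((zpowers_eq_top_of_prime_card hh.card_P (g := (⟨x, hx⟩ : (P : Subgroup G)))
      fun e => hne (congrArg Subtype.val e)).symm ▸ Subgroup.mem_top (⟨y, hy⟩ : (P : Subgroup G)))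
  have h1 : x ^ j = y := congrArg Subtype.val hj
  have h2 : y ∈ Subgroup.center G := h1 ▸ Subgroup.zpow_mem _ hz j
  rw [Subgroup.mem_center_iff.1 h2 g, mul_inv_cancel_right]
  exact hy

/-- The centralizer of `P` is generated by `P` and the center. -/
theorem Half.exists_center_mul (hh : Half P χ) {c : G} (hc : c ∈ cen P) :
    ∃ z ∈ Subgroup.center G, ∃ s ∈ (P : Subgroup G), c = z * s := by
  set h := hh.unif
  obtain ⟨⟨v, s⟩, hvs⟩ := h.prodEquiv.surjective ⟨c, hc⟩
  refine ⟨((v : cen P) : G), ?_, s, s.2, ?_⟩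
  swap
  · exact (congrArg Subtype.val hvs).symm.trans (by simp)
  obtain ⟨f, hf⟩ := hh.exists_hom
  obtain ⟨η₀, hη₀⟩ : ∃ η, mult χ η ≠ 0 := by
    have h1 := hh.card_constituents
    have h2 := hh.deg
    have h3 := hh.five_le
    obtain ⟨η, hη⟩ := Finset.card_pos.1 (h1.symm ▸ show 0 < degree χ by omega)
    exact ⟨η, (Finset.mem_filter.1 hη).2⟩
  set ω : ℂ := (f η₀ (v : cen P) : ℂ) with hω
  have hval : χ ((v : cen P) : G) = (degree χ : ℂ) * ω := by
    rw [restrict_eq hh.isChar, ← hh.card_constituents, Finset.card_eq_sum_ones, Finset.sum_filter,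
      Nat.cast_sum, Finset.sum_mul]
    refine Finset.sum_congr rfl fun η _ => ?_
    by_cases hη : mult χ η = 0
    · simp [hη]
    · rw [if_pos hη, (hh.mult_le_one η hη).1, Nat.cast_one, one_mul, one_mul, hf η hη, hω]
      have := DFunLike.congr_fun (hh.hom_V_eq hf hη hη₀) v
      exact congrArg Units.val this
  have hωn : ‖ω‖ = 1 := norm_hom_apply (f η₀) _
  obtain ⟨n, ρ, hρ⟩ := hh.isChar
  subst hρ
  have hsc : ρ ((v : cen P) : G) = ω • LinearMap.id :=
    eq_smul_id_of_character_eq ρ _ ω hωn (by rw [hval, degree_character])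
  rw [Subgroup.mem_center_iff]
  intro g
  have h1 : g * ((v : cen P) : G) * g⁻¹ * ((v : cen P) : G)⁻¹ = 1 := by
    refine hh.faithful _ ?_
    have h2 : ρ (g * ((v : cen P) : G) * g⁻¹ * ((v : cen P) : G)⁻¹) = 1 := by
      have h4 : ρ g * ρ ((v : cen P) : G) = ρ ((v : cen P) : G) * ρ g := by
        rw [hsc]
        ext w
        simp
      rw [map_mul, map_mul, map_mul, h4, mul_assoc (ρ ((v : cen P) : G)), ← map_mul ρ g g⁻¹,
        mul_inv_cancel, map_one, mul_one, ← map_mul, mul_inv_cancel, map_one]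
    simp [Representation.character, h2]
  rwa [mul_inv_eq_one, mul_inv_eq_iff_eq_mul] at h1

end CfsgLib.HalfDegree
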