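import Cfsg.Agent.Lib.HalfDegree.Summand
import Cfsg.Agent.Lib.HalfDegree.Adjoint

/-!
# The homomorphism to `PGL₂`
-/

set_option autoImplicit false

open scoped Classical

namespace CfsgLib.HalfDegree

universe u

open CfsgLib.PSL2Sub

variable {G : Type u} [Group G] [Fintype G] {p : ℕ} [Fact p.Prime] {P : Sylow p G}
  {k : Type*} [Field k] [CharP k p] [IsAlgClosed k] {e : ℕ}
  {R : G →* Matrix (Fin e) (Fin e) k} {n a : G} {i : ℕ}

theorem IsNormalForm.exists_hom (h : IsNormalForm P e R n a i) :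
    ∃ ψ : G →* PG k, ψ a ≠ 1 ∧ ∀ z ∈ Subgroup.center G, ψ z = 1 := by
  obtain ⟨W, E, H, F, s, hs, hstab, hW, hEE, hHH, hFF, hEH, hEF, hHF, hne⟩ := h.exists_summand
  have h2 := h.two_ne_zero
  let Φ : Matrix (Fin 2) (Fin 2) k →ₗ[k] Matrix (Fin e) (Fin e) k :=
    (Matrix.entryLinearMap k k 0 1).smulRight E + (Matrix.entryLinearMap k k 0 0).smulRight H +
      (Matrix.entryLinearMap k k 1 0).smulRight F
  have hΦ : ∀ A, Φ A = A 0 1 • E + A 0 0 • H + A 1 0 • F := fun A => by simp [Φ]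
  let trm : Matrix (Fin e) (Fin e) k → (Matrix (Fin e) (Fin e) k →ₗ[k] k) := fun M =>
    (Matrix.traceLinearMap (Fin e) k k).comp (LinearMap.mulRight k M)
  let Q : Matrix (Fin e) (Fin e) k →ₗ[k] Matrix (Fin 2) (Fin 2) k :=
    ((2 * s)⁻¹ • trm H).smulRight !![1, 0; 0, -1] + (s⁻¹ • trm F).smulRight !![0, 1; 0, 0] +
      (s⁻¹ • trm E).smulRight !![0, 0; 1, 0]
  have hQ : ∀ M, Q M = ((2 * s)⁻¹ * (M * H).trace) • !![1, 0; 0, -1] +
      (s⁻¹ * (M * F).trace) • !![0, 1; 0, 0] + (s⁻¹ * (M * E).trace) • !![0, 0; 1, 0] := fun M => by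
    simp [Q, trm]
  have hQtr : ∀ M, (Q M).trace = 0 := fun M => by
    rw [hQ]; simp [Matrix.trace_fin_two]
  have hmem : ∀ {M}, M = E ∨ M = H ∨ M = F → M ∈ W := fun {M} hM => by
    rw [hW]; exact Submodule.subset_span (by simpa using hM)
  have hΦW : ∀ A, Φ A ∈ W := fun A => by
    rw [hΦ]
    exact W.add_mem (W.add_mem (W.smul_mem _ (hmem (Or.inl rfl)))
      (W.smul_mem _ (hmem (Or.inr (Or.inl rfl))))) (W.smul_mem _ (hmem (Or.inr (Or.inr rfl))))
  have hQΦ : ∀ A : Matrix (Fin 2) (Fin 2) k, A.trace = 0 → Q (Φ A) = A := by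
    intro A hA
    conv_rhs => rw [traceless_combination hA]
    rw [hQ, hΦ]
    simp only [add_mul, smul_mul_assoc, Matrix.trace_add, Matrix.trace_smul, smul_eq_mul, hEE, hHH,
      hFF, hEH, hEF, hHF, Matrix.trace_mul_comm F E, Matrix.trace_mul_comm H E,
      Matrix.trace_mul_comm F H, mul_zero, zero_add, add_zero]
    rw [mul_comm (A 0 0) (2 * s), inv_mul_cancel_left₀ (mul_ne_zero h2 hs), mul_comm (A 0 1) s,
      inv_mul_cancel_left₀ hs, mul_comm (A 1 0) s, inv_mul_cancel_left₀ hs]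
    abel
  have hΦQ : ∀ M ∈ W, Φ (Q M) = M := by
    intro M hM
    obtain ⟨A, hA, rfl⟩ : ∃ A : Matrix (Fin 2) (Fin 2) k, A.trace = 0 ∧ M = Φ A := by
      rw [hW] at hM
      induction hM using Submodule.span_induction with
      | mem M hM =>
        rcases hM with rfl | rfl | rfl
        · exact ⟨!![0, 1; 0, 0], by simp [Matrix.trace_fin_two], by simp [hΦ]⟩
        · exact ⟨!![1, 0; 0, -1], by simp [Matrix.trace_fin_two], by simp [hΦ]⟩
        · exact ⟨!![0, 0; 1, 0], by simp [Matrix.trace_fin_two], by simp [hΦ]⟩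
      | zero => exact ⟨0, by simp, by simp⟩
      | add x y _ _ hx hy =>
        obtain ⟨A, hA, rfl⟩ := hx
        obtain ⟨B, hB, rfl⟩ := hy
        exact ⟨A + B, by rw [Matrix.trace_add, hA, hB, add_zero], (map_add Φ A B).symm⟩
      | smul c x _ hx =>
        obtain ⟨A, hA, rfl⟩ := hx
        exact ⟨c • A, by rw [Matrix.trace_smul, hA, smul_zero], (map_smul Φ c A).symm⟩
    rw [hQΦ A hA]
  have hB : ∀ A B : Matrix (Fin 2) (Fin 2) k, A.trace = 0 → B.trace = 0 →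
      (Φ A * Φ B).trace = s * (A * B).trace := by
    intro A B hA hB
    rw [hΦ, hΦ]
    conv_rhs => rw [traceless_eq hA, traceless_eq hB]
    simp only [add_mul, mul_add, smul_mul_assoc, mul_smul_comm, Matrix.trace_add, Matrix.trace_smul,
      smul_eq_mul, hEE, hHH, hFF, hEH, hEF, hHF, Matrix.trace_mul_comm F E,
      Matrix.trace_mul_comm H E, Matrix.trace_mul_comm F H]
    simp [Matrix.trace_fin_two, Matrix.mul_apply, Fin.sum_univ_two]
    ring
  set L : G → (Matrix (Fin 2) (Fin 2) k →ₗ[k] Matrix (Fin 2) (Fin 2) k) :=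
    fun g => Q.comp ((Ad R g).comp Φ) with hL
  have hLa : ∀ g A, L g A = Q (Ad R g (Φ A)) := fun g A => rfl
  obtain ⟨ψ, hψ⟩ := exists_hom_PG h2 L
    (fun A hA => by rw [hLa, map_one, Module.End.one_apply, hQΦ A hA])
    (fun g g' A hA => by
      rw [hLa, hLa, hLa, hΦQ _ (hstab g' _ (hΦW A)), map_mul, Module.End.mul_apply])
    (fun g A _ => hQtr _)
    (fun g A B hA hB' => by
      refine mul_left_cancel₀ hs ?_
      rw [hLa, hLa, ← hB _ _ (hQtr _) (hQtr _), ← hB A B hA hB', hΦQ _ (hstab g _ (hΦW A)),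
        hΦQ _ (hstab g _ (hΦW B)), trace_Ad, Ad_comp])
  refine ⟨ψ, fun ha => ?_, fun z hz => (hψ z).2 ⟨1, one_mul 1, fun A hA => ?_⟩⟩
  · obtain ⟨ε, -, hA⟩ := (hψ a).1 ha
    refine hne ε fun M hM => ?_
    have h1 := hA (Q M) (hQtr M)
    rw [hLa, hΦQ M hM] at h1
    rw [← hΦQ _ (hstab a M hM), h1, map_smul, hΦQ M hM]
  · obtain ⟨μ, hμ⟩ := h.central z hz
    rw [hLa, one_smul, (Ad_eq_self_iff R z (Φ A)).2
      (by rw [hμ]; exact Matrix.scalar_commute μ (fun r => Commute.all _ _) _), hQΦ A hA]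

end CfsgLib.HalfDegree
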