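import Cfsg.Agent.Lib.HalfDegree.Lattice

/-!
# The reduction is a single Jordan block on `P`, and its normal form
-/

set_option autoImplicit false

open scoped Classical

namespace CfsgLib.HalfDegree

universe u

/-- The shift matrix. -/
def shift (k : Type*) [Zero k] [One k] (e : ℕ) : Matrix (Fin e) (Fin e) k :=
  Matrix.of fun r c => if (r : ℕ) = c + 1 then 1 else 0

/-- The representation with `P` in a Jordan block and a complement diagonal. -/
structure IsNormalForm {G : Type u} [Group G] {p : ℕ} (P : Sylow p G) (e : ℕ) {k : Type*} [Field k]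
    (R : G →* Matrix (Fin e) (Fin e) k) (n a : G) (i : ℕ) : Prop where
  card_P : Nat.card (P : Subgroup G) = p
  five_le : 5 ≤ p
  deg : 2 * e + 1 = p
  not_normal : ¬ (P : Subgroup G).Normal
  inj : Function.Injective R
  mem_P : a ∈ (P : Subgroup G)
  ne_one : a ≠ 1
  nil : ∀ s ∈ (P : Subgroup G), (R s - 1) ^ e = 0
  mem_nor : n ∈ Subgroup.normalizer ((P : Subgroup G) : Set G)
  conj_eq : n * a * n⁻¹ = a ^ i
  prim : ∀ t : ℕ, (i : k) ^ t = 1 ↔ e ∣ t
  gen : ∀ x ∈ Subgroup.normalizer ((P : Subgroup G) : Set G),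
    ∃ t : ℕ, ∃ z ∈ Subgroup.center G, ∃ s ∈ (P : Subgroup G), x = n ^ t * z * s
  cen : ∀ c ∈ Subgroup.centralizer ((P : Subgroup G) : Set G),
    ∃ z ∈ Subgroup.center G, ∃ s ∈ (P : Subgroup G), c = z * s
  central : ∀ z ∈ Subgroup.center G, ∃ μ : k, R z = Matrix.scalar (Fin e) μ
  diag : ∃ γ : k, γ ≠ 0 ∧ R n = Matrix.diagonal fun l : Fin e => γ * (i : k) ^ (l : ℕ)
  comm : Commute (R a) (shift k e)
  comm_shift : ∀ A, Commute A (R a) → Commute A (shift k e)

variable {G : Type u} [Group G] [Fintype G] {p : ℕ} [Fact p.Prime] {P : Sylow p G}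
variable {k : Type*} [Field k] [CharP k p] {e : ℕ} {R : G →* Matrix (Fin e) (Fin e) k}
  {n a : G} {i : ℕ} {β : k} {v : Fin e → k}

theorem exists_normalForm (h : IsReduced P e R n a i β v) :
    ∃ R' : G →* Matrix (Fin e) (Fin e) k, IsNormalForm P e R' n a i := by
  have hdeg := h.deg
  have h5 := h.five_le
  have he2 : 2 ≤ e := by omega
  have he0 : (e : k) ≠ 0 := by
    rw [Ne, CharP.cast_eq_zero_iff k p]
    intro hd
    have := Nat.le_of_dvd (by omega) hd
    omega
  set q : k := (i : k) with hq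
  have hq0 : q ≠ 0 := by
    intro h0
    have := (h.prim e).2 dvd_rfl
    rw [← hq, h0, zero_pow (by omega)] at this
    exact zero_ne_one this
  have hqe : q ^ e = 1 := (h.prim e).2 dvd_rfl
  have hqmod : ∀ s t : ℕ, q ^ s = q ^ t ↔ s % e = t % e := by
    have key : ∀ s t : ℕ, s ≤ t → (q ^ s = q ^ t ↔ s % e = t % e) := by
      intro s t hst
      obtain ⟨d, rfl⟩ := Nat.le.dest hst
      rw [pow_add, eq_comm (a := q ^ s), mul_eq_left₀ (pow_ne_zero _ hq0), hq, h.prim]
      have h1 := Nat.modEq_iff_dvd' (n := e) (Nat.le_add_right s d)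
      rw [Nat.add_sub_cancel_left] at h1
      exact h1.symm
    intro s t
    rcases le_total s t with hst | hst
    · exact key s t hst
    · rw [eq_comm, key t s hst, eq_comm]
  set A := R n with hA
  set A' := R n⁻¹ with hA'
  have hAA' : A * A' = 1 := by rw [hA, hA', ← map_mul, mul_inv_cancel, map_one]
  have hA'A : A' * A = 1 := by rw [hA, hA', ← map_mul, inv_mul_cancel, map_one]
  set U := R a with hU
  set x := U - 1 with hx
  -- the idempotents
  set F : ℕ → Matrix (Fin e) (Fin e) k :=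
    fun t => (e : k)⁻¹ • ∑ j ∈ Finset.range e, ((β * q ^ t)⁻¹) ^ j • A ^ j with hF
  have hγ : ∀ t : ℕ, (β * q ^ t) ≠ 0 := fun t => mul_ne_zero h.β_ne (pow_ne_zero _ hq0)
  have hFmod : ∀ s t : ℕ, s % e = t % e → F s = F t := fun s t hst => by
    simp only [hF, (hqmod s t).2 hst]
  have hshiftsum : ∀ {M : Type _} [AddCommMonoid M] (f : ℕ → M), f e = f 0 →
      ∑ j ∈ Finset.range e, f (j + 1) = ∑ j ∈ Finset.range e, f j := by
    intro M _ f hf
    obtain ⟨e', he'⟩ : ∃ e', e = e' + 1 := ⟨e - 1, by omega⟩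
    rw [he', Finset.sum_range_succ, Finset.sum_range_succ' f, ← he', hf]
  have hAF : ∀ t, A * F t = (β * q ^ t) • F t := by
    intro t
    set c := (β * q ^ t)⁻¹ with hc
    have hcc : (β * q ^ t) * c = 1 := mul_inv_cancel₀ (hγ t)
    have h1 : ∑ j ∈ Finset.range e, c ^ (j + 1) • A ^ (j + 1) =
        ∑ j ∈ Finset.range e, c ^ j • A ^ j := by
      refine hshiftsum (fun j => c ^ j • A ^ j) ?_
      simp only [pow_zero, one_smul]
      rw [h.pow_n, Matrix.smul_eq_diagonal_mul, Matrix.scalar_apply, Matrix.diagonal_mul_diagonal,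
        ← Matrix.diagonal_one]
      congr 1
      funext l
      rw [hc, inv_pow, mul_pow, ← pow_mul, mul_comm t e, pow_mul, hqe, one_pow, mul_one,
        inv_mul_cancel₀ (pow_ne_zero _ h.β_ne)]
    calc A * F t = (e : k)⁻¹ • ∑ j ∈ Finset.range e, c ^ j • A ^ (j + 1) := by
          simp only [hF, mul_smul_comm, Finset.mul_sum, ← pow_succ']
          rfl
      _ = (e : k)⁻¹ • ((β * q ^ t) • ∑ j ∈ Finset.range e, c ^ (j + 1) • A ^ (j + 1)) := by
          congr 1
          rw [Finset.smul_sum]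
          refine Finset.sum_congr rfl fun j _ => ?_
          rw [smul_smul, pow_succ' c, ← mul_assoc, hcc, one_mul]
      _ = (β * q ^ t) • F t := by rw [h1, smul_comm]
  have hApowF : ∀ (j t : ℕ), A ^ j * F t = (β * q ^ t) ^ j • F t := by
    intro j t
    induction j with
    | zero => simp
    | succ j ih => rw [pow_succ', mul_assoc, ih, mul_smul_comm, hAF, smul_smul, ← pow_succ]
  have hgeom : ∀ z : k, z ^ e = 1 → z ≠ 1 → ∑ j ∈ Finset.range e, z ^ j = 0 := fun z hz hz1 => by
    rw [geom_sum_eq hz1, hz, sub_self, zero_div]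
  have hFF : ∀ s t, F s * F t = if s % e = t % e then F t else 0 := by
    intro s t
    conv_lhs => rw [hF]
    dsimp only
    rw [smul_mul_assoc, Finset.sum_mul]
    change (e : k)⁻¹ • ∑ j ∈ Finset.range e, ((β * q ^ s)⁻¹ ^ j • A ^ j) * F t = _
    simp only [smul_mul_assoc, hApowF, smul_smul, ← Finset.sum_smul, ← mul_pow]
    split_ifs with hst
    · rw [(hqmod s t).2 hst, inv_mul_cancel₀ (hγ t)]
      simp [he0]
    · rw [hgeom _ (by rw [mul_pow, inv_pow, mul_pow, mul_pow, ← pow_mul, ← pow_mul, mul_comm s e,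
          mul_comm t e, pow_mul, pow_mul, hqe, one_pow, one_pow, mul_one,
          inv_mul_cancel₀ (pow_ne_zero _ h.β_ne)]) (fun h1 => hst ((hqmod s t).1
          (mul_left_cancel₀ h.β_ne ((inv_mul_eq_one₀ (hγ s)).1 h1)))), mul_zero, zero_smul]
  have hsumF : ∑ t ∈ Finset.range e, F t = 1 := by
    simp only [hF, ← Finset.smul_sum]
    rw [Finset.sum_comm]
    have h1 : ∀ j ∈ Finset.range e, j ≠ 0 →
        (∑ t ∈ Finset.range e, ((β * q ^ t)⁻¹) ^ j • A ^ j) = 0 := by
      intro j hj hj0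
      rw [← Finset.sum_smul]
      have : ∀ t, ((β * q ^ t)⁻¹) ^ j = (β⁻¹) ^ j * ((q ^ j)⁻¹) ^ t := fun t => by
        rw [inv_pow, inv_pow, inv_pow, ← mul_inv, mul_pow, ← pow_mul, ← pow_mul, mul_comm t j]
      simp only [this, ← Finset.mul_sum]
      rw [hgeom _ (by rw [inv_pow, ← pow_mul, mul_comm, pow_mul, hqe, one_pow, inv_one])
        (fun h1 => by
          have h2 := (h.prim j).1 (inv_eq_one.1 h1)
          have h3 := Nat.le_of_dvd (Nat.pos_of_ne_zero hj0) h2
          have h4 := Finset.mem_range.1 hj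
          omega), mul_zero, zero_smul]
    rw [Finset.sum_eq_single 0 h1 (fun h0 => absurd (Finset.mem_range.2 (by omega)) h0)]
    simp only [pow_zero, one_smul, Finset.sum_const, Finset.card_range]
    rw [← Nat.cast_smul_eq_nsmul k, smul_smul, inv_mul_cancel₀ he0, one_smul]
  have htrF : ∀ t, (F t).trace = 1 := by
    intro t
    simp only [hF, Matrix.trace_smul, Matrix.trace_sum]
    rw [Finset.sum_eq_single 0 (fun j hj hj0 => by
        rw [h.trace_pow j (fun hd => by
          have h3 := Nat.le_of_dvd (Nat.pos_of_ne_zero hj0) hd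
          have h4 := Finset.mem_range.1 hj
          omega), smul_zero])
      (fun h0 => absurd (Finset.mem_range.2 (by omega)) h0)]
    simp [Matrix.trace_one, he0]
  have hline : ∀ t (y z : Fin e → k), (F t).mulVec y = y → y ≠ 0 → (F t).mulVec z = z →
      ∃ c : k, z = c • y := by
    intro t y z hy hy0 hz
    have hrk := finrank_range_of_trace (p := p) (E := F t) (r := 1)
      (by rw [Fintype.card_fin]; omega) (by rw [hFF, if_pos rfl]) (by omega)
      (by rw [htrF, Nat.cast_one])
    have hymem : y ∈ LinearMap.range (F t).mulVecLin := ⟨y, hy⟩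
    have hne : (⟨y, hymem⟩ : LinearMap.range (F t).mulVecLin) ≠ 0 :=
      fun h0 => hy0 (congrArg Subtype.val h0)
    obtain ⟨c, hc⟩ := (finrank_eq_one_iff_of_nonzero' _ hne).1 hrk ⟨z, z, hz⟩
    exact ⟨c, (congrArg Subtype.val hc).symm⟩
  -- the operator `J`
  have hconjpow : ∀ j : ℕ, n ^ j * a * n⁻¹ ^ j = a ^ (i ^ j) := by
    intro j
    induction j with
    | zero => simp
    | succ j ih =>
      rw [pow_succ' n, pow_succ (n⁻¹), show n * n ^ j * a * (n⁻¹ ^ j * n⁻¹) =
        n * (n ^ j * a * n⁻¹ ^ j) * n⁻¹ by simp only [mul_assoc], ih,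
        ← conj_pow, h.conj_eq, ← pow_mul, pow_succ']
  set alg := Algebra.adjoin k ({x} : Set (Matrix (Fin e) (Fin e) k)) with halg
  have hxalg : x ∈ alg := Algebra.subset_adjoin (Set.mem_singleton x)
  have hUalg : U ∈ alg := by
    have : U = x + 1 := by rw [hx, sub_add_cancel]
    rw [this]
    exact add_mem hxalg (one_mem _)
  have hgeomU : ∀ m : ℕ, U ^ m - 1 = x * ∑ l ∈ Finset.range m, U ^ l := fun m => by
    rw [hx, mul_geom_sum]
  have hgeom2 : ∀ m : ℕ, ∃ c ∈ alg, U ^ m - 1 = x * (algebraMap k _ (m : k) + x * c) := by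
    intro m
    refine ⟨∑ l ∈ Finset.range m, ∑ r ∈ Finset.range l, U ^ r,
      sum_mem fun l _ => sum_mem fun r _ => pow_mem hUalg r, ?_⟩
    rw [hgeomU]
    congr 1
    rw [Finset.mul_sum, map_natCast]
    simp only [← hgeomU]
    rw [Finset.sum_sub_distrib, Finset.sum_const, Finset.card_range, nsmul_one]
    abel
  set J := (e : k)⁻¹ • ∑ j ∈ Finset.range e, (q⁻¹) ^ j • (A ^ j * x * A' ^ j) with hJ
  have hconjx : ∀ j, A ^ j * x * A' ^ j = U ^ (i ^ j) - 1 := by
    intro j
    have h2 : A ^ j * A' ^ j = 1 := by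
      rw [← (show Commute A A' from hAA'.trans hA'A.symm).mul_pow, hAA', one_pow]
    rw [hx, mul_sub, sub_mul, mul_one, h2, hA, hA', hU, ← map_pow, ← map_pow, ← map_mul,
      ← map_mul, hconjpow, map_pow]
  choose cc hcc hcceq using hgeom2
  set b := (e : k)⁻¹ • ∑ j ∈ Finset.range e, (q⁻¹) ^ j • cc (i ^ j) with hb
  have hbalg : b ∈ alg := alg.smul_mem (sum_mem fun j _ => alg.smul_mem (hcc _) _) _
  have hJx : J = x * (1 + x * b) := by
    rw [hJ]
    simp only [hconjx, hcceq, mul_add, smul_add, Finset.sum_add_distrib]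
    congr 1
    · have : ∀ j ∈ Finset.range e, q⁻¹ ^ j * ((i ^ j : ℕ) : k) = 1 := fun j _ => by
        rw [Nat.cast_pow, ← hq, ← mul_pow, inv_mul_cancel₀ hq0, one_pow]
      simp only [Algebra.algebraMap_eq_smul_one, mul_smul_comm, mul_one, smul_smul,
        ← Finset.sum_smul]
      rw [Finset.sum_congr rfl this, Finset.sum_const, Finset.card_range, nsmul_one,
        inv_mul_cancel₀ he0, one_smul]
    · simp only [hb, mul_smul_comm, Finset.mul_sum]
  have hJalg : J ∈ alg := by
    rw [hJx]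
    exact mul_mem hxalg (add_mem (one_mem _) (mul_mem hxalg hbalg))
  have hcommalg : ∀ y ∈ alg, ∀ z ∈ alg, Commute y z := fun y hy z hz =>
    (Algebra.commute_of_mem_adjoin_singleton_of_commute hy
      (Algebra.commute_of_mem_adjoin_singleton_of_commute hz (Commute.refl x)).symm).symm
  have hxnil : x ^ e = 0 := h.nil a h.mem_P
  have hJnil : J ^ e = 0 := by
    rw [hJx, (hcommalg x hxalg _ (add_mem (one_mem _) (mul_mem hxalg hbalg))).mul_pow, hxnil,
      zero_mul]
  have hsplit : ∀ y ∈ alg, ∃ l : k, ∃ y' ∈ alg, y = algebraMap k _ l + x * y' := by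
    intro y hy
    induction hy using Algebra.adjoin_induction with
    | mem y hy =>
      rw [Set.mem_singleton_iff] at hy
      exact ⟨0, 1, one_mem _, by simp [hy]⟩
    | algebraMap r => exact ⟨r, 0, zero_mem _, by simp⟩
    | add y z _ _ hy hz =>
      obtain ⟨l, y', hy', rfl⟩ := hy
      obtain ⟨m, z', hz', rfl⟩ := hz
      exact ⟨l + m, y' + z', add_mem hy' hz', by rw [map_add, mul_add]; abel⟩
    | mul y z _ hz' hy hz =>
      obtain ⟨l, y', hy', rfl⟩ := hy
      obtain ⟨m, z', hz'', rfl⟩ := hz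
      refine ⟨l * m, algebraMap k _ l * z' + y' * (algebraMap k _ m + x * z'),
        add_mem (mul_mem (alg.algebraMap_mem l) hz'') (mul_mem hy' hz'), ?_⟩
      rw [add_mul, map_mul, mul_add (algebraMap k _ l), mul_add x, ← mul_assoc (algebraMap k _ l) x,
        (Algebra.commutes l x : algebraMap k _ l * x = x * algebraMap k _ l), mul_assoc x,
        mul_assoc x]
      abel
  set B := Algebra.adjoin k ({J} : Set (Matrix (Fin e) (Fin e) k))
  have hJB : J ∈ B := Algebra.subset_adjoin (Set.mem_singleton J)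
  have hxB : ∀ m j : ℕ, 1 ≤ j → e ≤ j + m → ∀ y ∈ alg, x ^ j * y ∈ B := by
    intro m
    induction m with
    | zero =>
      intro j _ hjm y _
      rw [pow_eq_zero_of_le (by omega) hxnil, zero_mul]
      exact zero_mem _
    | succ m ih =>
      intro j hj hjm y hy
      obtain ⟨l, y', hy', rfl⟩ := hsplit y hy
      have hJpow : J ^ j = x ^ j * (1 + x * b) ^ j := by
        rw [hJx, (hcommalg x hxalg _ (add_mem (one_mem _) (mul_mem hxalg hbalg))).mul_pow]
      obtain ⟨c, hc, hceq⟩ : ∃ c ∈ alg, (1 + x * b) ^ j = 1 + x * c := by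
        clear hj hjm hJpow
        induction j with
        | zero => exact ⟨0, zero_mem _, by simp⟩
        | succ j ihj =>
          obtain ⟨c, hc, hceq⟩ := ihj
          refine ⟨b + c * (1 + x * b), add_mem hbalg (mul_mem hc (add_mem (one_mem _)
            (mul_mem hxalg hbalg))), ?_⟩
          rw [pow_succ, hceq, add_mul, one_mul, mul_add x, mul_assoc]
          abel
      have hxj : x ^ j ∈ B := by
        have : x ^ j = J ^ j - x ^ (j + 1) * c := by
          rw [hJpow, hceq, mul_add, mul_one, pow_succ, mul_assoc, add_sub_cancel_right]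
        rw [this]
        exact sub_mem (pow_mem hJB j) (ih (j + 1) (by omega) (by omega) c hc)
      rw [mul_add, ← mul_assoc, ← pow_succ, ← Algebra.commutes, ← Algebra.smul_def]
      exact add_mem (B.smul_mem hxj l) (ih (j + 1) (by omega) (by omega) y' hy')
  have hUB : U ∈ B := by
    have : U = x ^ 1 * 1 + 1 := by rw [pow_one, mul_one, hx, sub_add_cancel]
    rw [this]
    exact add_mem (hxB e 1 le_rfl (by omega) 1 (one_mem _)) (one_mem _)
  have hUcomm : ∀ y, Commute y J → Commute y U := fun y hy =>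
    Algebra.commute_of_mem_adjoin_singleton_of_commute hUB hy
  have hAJ : A * J = q • (J * A) := by
    have h1 : A * J * A' = q • J := by
      have hA'e : A ^ e * x * A' ^ e = x := by
        rw [hconjx]
        obtain ⟨m, hm⟩ : ∃ m, A ^ e = Matrix.scalar (Fin e) m := ⟨_, h.pow_n⟩
        rw [← hconjx, hm]
        have h2 : A ^ e * A' ^ e = 1 := by
          rw [← (show Commute A A' from hAA'.trans hA'A.symm).mul_pow, hAA', one_pow]
        rw [(Matrix.scalar_commute m (fun r => Commute.all _ _) x).eq, mul_assoc, ← hm, h2,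
          mul_one]
      have h3 : ∑ j ∈ Finset.range e, q⁻¹ ^ (j + 1) • (A ^ (j + 1) * x * A' ^ (j + 1)) =
          ∑ j ∈ Finset.range e, q⁻¹ ^ j • (A ^ j * x * A' ^ j) :=
        hshiftsum (fun j => q⁻¹ ^ j • (A ^ j * x * A' ^ j))
          (by rw [inv_pow, hqe, inv_one, hA'e]; simp)
      rw [hJ, smul_comm q]
      conv_rhs => rw [← h3]
      rw [mul_smul_comm, smul_mul_assoc, Finset.mul_sum, Finset.sum_mul, Finset.smul_sum (r := q)]
      congr 1
      refine Finset.sum_congr rfl fun j _ => ?_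
      rw [mul_smul_comm, smul_mul_assoc, smul_smul q, pow_succ' q⁻¹, ← mul_assoc q,
        mul_inv_cancel₀ hq0, one_mul, pow_succ' A, pow_succ A']
      simp only [mul_assoc]
    calc A * J = A * J * A' * A := by rw [mul_assoc (A * J), hA'A, mul_one]
      _ = q • (J * A) := by rw [h1, smul_mul_assoc]
  have hApowJ : ∀ j : ℕ, A ^ j * J = q ^ j • (J * A ^ j) := by
    intro j
    induction j with
    | zero => simp
    | succ j ih =>
      rw [pow_succ' A, mul_assoc, ih, mul_smul_comm, ← mul_assoc A, hAJ, smul_mul_assoc, smul_smul,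
        pow_succ q, mul_assoc J]
  have hJF : ∀ t, J * F t = F (t + 1) * J := by
    intro t
    simp only [hF, mul_smul_comm, smul_mul_assoc, Finset.mul_sum, Finset.sum_mul, hApowJ, smul_smul]
    congr 1
    refine Finset.sum_congr rfl fun j _ => ?_
    congr 1
    rw [pow_succ, ← mul_assoc β, mul_inv (β * q ^ t) q, mul_pow, inv_pow q, mul_assoc,
      inv_mul_cancel₀ (pow_ne_zero _ hq0), mul_one]
  have hJpowF : ∀ l t, J ^ l * F t = F (t + l) * J ^ l := by
    intro l
    induction l with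
    | zero => intro t; simp
    | succ l ih => intro t; rw [pow_succ, mul_assoc, hJF, ← mul_assoc, ih, mul_assoc, add_assoc,
        add_comm 1 l]
  have hFne : ∀ t, F t ≠ 0 := fun t h0 => by
    have := htrF t
    rw [h0, Matrix.trace_zero] at this
    exact zero_ne_one this
  -- a chain without breaks
  have hchain : ∀ t₀, (∀ l, l + 1 < e → J * F (t₀ + l) ≠ 0) → ∀ l, l < e → J ^ l * F t₀ ≠ 0 := by
    intro t₀ hnb l
    induction l with
    | zero => intro _; rw [pow_zero, one_mul]; exact hFne t₀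
    | succ l ih =>
      intro hl h0
      refine hnb l (by omega) ?_
      obtain ⟨w, hw⟩ : ∃ w, (J ^ l * F t₀).mulVec w ≠ 0 := by
        by_contra hcon
        push Not at hcon
        exact ih (by omega) (Matrix.ext_iff_mulVec.2 fun w => by rw [hcon, Matrix.zero_mulVec])
      set y := (J ^ l * F t₀).mulVec w with hy
      have hyF : (F (t₀ + l)).mulVec y = y := by
        rw [hy, hJpowF, Matrix.mulVec_mulVec, ← mul_assoc, hFF, if_pos rfl]
      refine Matrix.ext_iff_mulVec.2 fun z => ?_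
      obtain ⟨c, hc⟩ := hline (t₀ + l) y ((F (t₀ + l)).mulVec z) hyF hw
        (by rw [Matrix.mulVec_mulVec, hFF, if_pos rfl])
      rw [← Matrix.mulVec_mulVec, hc, Matrix.mulVec_smul, hy, Matrix.mulVec_mulVec, ← mul_assoc,
        ← pow_succ', h0, Matrix.zero_mulVec, smul_zero, Matrix.zero_mulVec]
  obtain ⟨t₀, ht₀⟩ : ∃ t₀, ∀ l, l + 1 < e → J * F (t₀ + l) ≠ 0 := by
    by_contra hcon
    push Not at hcon
    obtain ⟨l₁, hl₁, hb₁⟩ := hcon 0
    obtain ⟨l₂, hl₂, hb₂⟩ := hcon (l₁ + 1)
    rw [zero_add] at hb₁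
    set t₂ := (l₁ + 1 + l₂) % e with ht₂
    have hb₂' : J * F t₂ = 0 := by rw [hFmod t₂ _ (Nat.mod_mod _ _), hb₂]
    have ht₂e : t₂ < e := Nat.mod_lt _ (by omega)
    have hne : t₂ ≠ l₁ := by
      intro he'
      have h3 := Nat.div_add_mod (l₁ + 1 + l₂) e
      rw [← ht₂, he'] at h3
      rcases Nat.eq_zero_or_pos ((l₁ + 1 + l₂) / e) with h4 | h4
      · rw [h4] at h3; omega
      · have : e * 1 ≤ e * ((l₁ + 1 + l₂) / e) := Nat.mul_le_mul_left _ h4
        omega
    obtain ⟨s₁, s₂, hs, hs₂e, hb₁', hb₂''⟩ : ∃ s₁ s₂, s₁ < s₂ ∧ s₂ < e ∧ J * F s₁ = 0 ∧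
        J * F s₂ = 0 := by
      rcases Nat.lt_or_gt_of_ne hne with hlt | hlt
      · exact ⟨t₂, l₁, hlt, by omega, hb₂', hb₁⟩
      · exact ⟨l₁, t₂, hlt, ht₂e, hb₁, hb₂'⟩
    set E := ∑ t ∈ Finset.Ico (s₁ + 1) (s₂ + 1), F t with hE
    have hEJ : Commute E J := by
      change E * J = J * E
      rw [hE, Finset.sum_mul, Finset.mul_sum]
      simp only [hJF]
      have h1 : ∀ t, F (t + 1) * J = J * F t := fun t => (hJF t).symm
      have h2 := Finset.sum_Ico_eq_sum_range (fun t => F t * J) (s₁ + 1) (s₂ + 1)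
      have h3 := Finset.sum_Ico_eq_sum_range (fun t => F (t + 1) * J) (s₁ + 1) (s₂ + 1)
      rw [h2, h3]
      have e1 : s₂ + 1 - (s₁ + 1) = (s₂ - s₁ - 1) + 1 := by omega
      rw [e1, Finset.sum_range_succ', Finset.sum_range_succ (fun l => F (s₁ + 1 + l + 1) * J)]
      rw [show F (s₁ + 1 + 0) * J = 0 by rw [add_zero, h1, hb₁'],
        show F (s₁ + 1 + (s₂ - s₁ - 1) + 1) * J = 0 by
          rw [h1, show s₁ + 1 + (s₂ - s₁ - 1) = s₂ by omega, hb₂'']]
      simp only [add_assoc]
    have hEA : Commute A E :=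
      Commute.sum_right _ _ _ fun t _ =>
        (Commute.sum_right _ _ _ fun j _ => (Commute.refl A).pow_right j |>.smul_right _).smul_right _
    have hEnor : ∀ y ∈ Subgroup.normalizer ((P : Subgroup G) : Set G), Commute (R y) E := by
      intro y hy
      obtain ⟨t, z, hz, s, hs', rfl⟩ := h.gen y hy
      obtain ⟨μ, hμ⟩ := h.central z hz
      obtain ⟨m, hm⟩ : ∃ m : ℕ, a ^ m = s := by
        have hne' : (⟨a, h.mem_P⟩ : (P : Subgroup G)) ≠ 1 :=
          fun e' => h.ne_one (congrArg Subtype.val e')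
        have hmem : (⟨s, hs'⟩ : (P : Subgroup G)) ∈ Subgroup.zpowers ⟨a, h.mem_P⟩ := by
          rw [zpowers_eq_top_of_prime_card h.card_P hne']
          exact Subgroup.mem_top _
        rw [mem_zpowers_iff_mem_range_orderOf] at hmem
        obtain ⟨m, -, hm⟩ := Finset.mem_image.1 hmem
        exact ⟨m, congrArg Subtype.val hm⟩
      rw [map_mul, map_mul, map_pow, hμ, ← hm, map_pow]
      exact ((hEA.pow_left t).mul_left (Matrix.scalar_commute μ (fun r => Commute.all _ _) E)).mul_left
        ((hUcomm E hEJ).symm.pow_left m)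
    have hEall : ∀ g, Commute (R g) E := fun g =>
      commute_of_commute_normalizer h.card_P R (m := e) (by omega) h.nil E hEnor g
    have hFv : ∀ t, t % e ≠ 0 → (F t).mulVec v = 0 := by
      intro t ht
      have h1 : (F 0).mulVec v = v := by
        have hpow : ∀ j : ℕ, (A ^ j).mulVec v = β ^ j • v := by
          intro j
          induction j with
          | zero => simp
          | succ j ih =>
            rw [pow_succ', ← Matrix.mulVec_mulVec, ih, Matrix.mulVec_smul, h.eig, smul_smul,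
              pow_succ]
        simp only [hF, pow_zero, mul_one, Matrix.smul_mulVec, Matrix.sum_mulVec, hpow, smul_smul,
          inv_pow, ← Finset.sum_smul]
        rw [Finset.sum_congr rfl (fun j _ => inv_mul_cancel₀ (pow_ne_zero j h.β_ne)),
          Finset.sum_const, Finset.card_range, nsmul_one, inv_mul_cancel₀ he0, one_smul]
      rw [← h1, Matrix.mulVec_mulVec, hFF, if_neg (by rw [Nat.zero_mod]; exact ht),
        Matrix.zero_mulVec]
    have hE0 : E = 0 := h.cyclic E hEall (by
      rw [hE, Matrix.sum_mulVec]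
      refine Finset.sum_eq_zero fun t ht => hFv t ?_
      rw [Finset.mem_Ico] at ht
      rw [Nat.mod_eq_of_lt (by omega)]
      omega)
    have h4 : E * F s₂ = F s₂ := by
      rw [hE, Finset.sum_mul, Finset.sum_eq_single s₂]
      · rw [hFF, if_pos rfl]
      · intro t ht hts
        rw [Finset.mem_Ico] at ht
        rw [hFF, if_neg (by rw [Nat.mod_eq_of_lt (by omega), Nat.mod_eq_of_lt (by omega)]; exact hts)]
      · exact fun hn => absurd (Finset.mem_Ico.2 ⟨by omega, by omega⟩) hn
    rw [hE0, zero_mul] at h4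
    exact hFne s₂ h4.symm
  -- the basis
  have hlast := hchain t₀ ht₀ (e - 1) (by omega)
  obtain ⟨w, hw⟩ : ∃ w, (J ^ (e - 1) * F t₀).mulVec w ≠ 0 := by
    by_contra hcon
    push Not at hcon
    exact hlast (Matrix.ext_iff_mulVec.2 fun w => by rw [hcon, Matrix.zero_mulVec])
  let f : Fin e → Fin e → k := fun l => (J ^ (l : ℕ) * F t₀).mulVec w
  have hfne : ∀ l, f l ≠ 0 := fun l h0 => hw (by
    rw [← Nat.sub_add_cancel (show (l : ℕ) ≤ e - 1 by omega), pow_add, mul_assoc,
      ← Matrix.mulVec_mulVec, show (J ^ (l : ℕ) * F t₀).mulVec w = 0 from h0, Matrix.mulVec_zero])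
  have hFf : ∀ (s : ℕ) (l : Fin e),
      (F s).mulVec (f l) = if s % e = (t₀ + l) % e then f l else 0 := by
    intro s l
    simp only [f, Matrix.mulVec_mulVec]
    rw [hJpowF, ← mul_assoc, hFF]
    split_ifs <;> simp
  have hli : LinearIndependent k f := by
    rw [Fintype.linearIndependent_iff]
    intro g hg l
    have h1 := congrArg (F (t₀ + l)).mulVec hg
    rw [Matrix.mulVec_sum, Matrix.mulVec_zero, Finset.sum_eq_single l] at h1
    · rw [Matrix.mulVec_smul, hFf, if_pos rfl] at h1
      exact (smul_eq_zero.1 h1).resolve_right (hfne l)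
    · intro m _ hml
      rw [Matrix.mulVec_smul, hFf, if_neg, smul_zero]
      intro hmod
      have h2 : (l : ℕ) % e = (m : ℕ) % e :=
        Nat.ModEq.add_left_cancel' t₀ (show t₀ + l ≡ t₀ + m [MOD e] from hmod)
      rw [Nat.mod_eq_of_lt l.2, Nat.mod_eq_of_lt m.2] at h2
      exact hml (Fin.ext h2.symm)
    · exact fun hn => absurd (Finset.mem_univ _) hn
  haveI : Nonempty (Fin e) := ⟨⟨0, by omega⟩⟩
  let bs := basisOfLinearIndependentOfCardEqFinrank hli (by simp)
  have hbs : ∀ l, bs l = f l := fun l => by simp [bs]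
  let φ : Matrix (Fin e) (Fin e) k ≃ₐ[k] Matrix (Fin e) (Fin e) k :=
    Matrix.toLinAlgEquiv'.trans (LinearMap.toMatrixAlgEquiv bs)
  have hφ : ∀ M r c, φ M r c = bs.repr (M.mulVec (f c)) r := fun M r c => by
    simp [φ, LinearMap.toMatrixAlgEquiv_apply, hbs]
  have hφJ : φ J = shift k e := by
    ext r c
    rw [hφ]
    have h2 : J.mulVec (f c) = if hc : (c : ℕ) + 1 < e then f ⟨c + 1, hc⟩ else 0 := by
      simp only [f, Matrix.mulVec_mulVec, ← mul_assoc, ← pow_succ']
      split_ifs with hc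
      · rfl
      · rw [pow_eq_zero_of_le (by omega) hJnil, zero_mul, Matrix.zero_mulVec]
    rw [h2]
    simp only [shift, Matrix.of_apply]
    split_ifs with hc hr hr
    · rw [← hbs, Module.Basis.repr_self, Finsupp.single_apply, if_pos (Fin.ext hr.symm)]
    · rw [← hbs, Module.Basis.repr_self, Finsupp.single_apply,
        if_neg fun e' => hr (by rw [← e'])]
    · omega
    · simp
  refine ⟨φ.toAlgHom.toMonoidHom.comp R, ⟨h.card_P, h.five_le, h.deg, h.not_normal, ?_, h.mem_P,
    h.ne_one, fun s hs => ?_, h.mem_nor, h.conj_eq, h.prim, h.gen, h.cen, fun z hz => ?_, ?_, ?_, ?_⟩⟩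
  · exact φ.injective.comp h.inj
  · change (φ (R s) - 1) ^ e = 0
    rw [← map_one φ, ← map_sub, ← map_pow, h.nil s hs, map_zero]
  · obtain ⟨μ, hμ⟩ := h.central z hz
    refine ⟨μ, ?_⟩
    change φ (R z) = _
    rw [hμ, show Matrix.scalar (Fin e) μ = algebraMap k _ μ by
      ext r c; simp [Matrix.algebraMap_matrix_apply, Matrix.scalar_apply, Matrix.diagonal_apply]]
    exact φ.toAlgHom.commutes μ
  · refine ⟨β * q ^ t₀, hγ t₀, ?_⟩
    change φ A = _
    ext r c
    rw [hφ]
    have h1 : A.mulVec (f c) = (β * q ^ (t₀ + c)) • f c := by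
      have h2 := hFf (t₀ + c) c
      rw [if_pos rfl] at h2
      conv_lhs => rw [← h2]
      rw [Matrix.mulVec_mulVec, hAF, Matrix.smul_mulVec, h2]
    rw [h1, map_smul, ← hbs, Module.Basis.repr_self, Matrix.diagonal_apply]
    simp only [Finsupp.smul_apply, Finsupp.single_apply, smul_eq_mul]
    by_cases hrc : r = c
    · subst hrc
      simp [pow_add, mul_assoc, hq]
    · simp [hrc, Ne.symm hrc]
  · change Commute (φ U) (shift k e)
    rw [← hφJ]
    exact ((hUcomm J (Commute.refl J)).symm).map φ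
  · intro M hM
    obtain ⟨M', rfl⟩ := φ.surjective M
    rw [← hφJ]
    refine Commute.map ?_ φ
    have h2 : Commute M' U := φ.injective (by
      rw [map_mul, map_mul]
      exact hM.eq)
    exact Algebra.commute_of_mem_adjoin_singleton_of_commute hJalg
      (h2.sub_right (Commute.one_right M'))

end CfsgLib.HalfDegree
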