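import Cfsg.Agent.Lib.LatticeFix.Core
import Mathlib.FieldTheory.IsAlgClosed.Basic
import Mathlib.RingTheory.Valuation.Integral
import Mathlib.Algebra.Polynomial.Lifts

/-!
# The residue field of a valuation subring of an algebraically closed field
-/

set_option autoImplicit false

namespace CfsgLib.HalfDegree

theorem isAlgClosed_residueField (O : ValuationSubring ℂ) :
    IsAlgClosed (IsLocalRing.ResidueField O) := by
  refine IsAlgClosed.of_exists_root _ fun f hf hirr => ?_
  obtain ⟨F, hFmap, hFdeg, hFmonic⟩ := Polynomial.lifts_and_degree_eq_and_monic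
    (f := IsLocalRing.residue O)
    ((Polynomial.mem_lifts f).2 (Polynomial.map_surjective _ IsLocalRing.residue_surjective f)) hf
  obtain ⟨z, hz⟩ := IsAlgClosed.exists_root (F.map (algebraMap O ℂ)) (by
    rw [hFmonic.degree_map, hFdeg]
    exact (Polynomial.degree_pos_of_irreducible hirr).ne')
  have hint : IsIntegral O z := ⟨F, hFmonic, by rwa [Polynomial.IsRoot, Polynomial.eval_map] at hz⟩
  obtain ⟨a, ha⟩ := IsIntegrallyClosed.isIntegral_iff.1 hint
  refine ⟨IsLocalRing.residue O a, ?_⟩
  have h1 : F.eval a = 0 := by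
    apply IsFractionRing.injective O ℂ
    rw [Polynomial.IsRoot, Polynomial.eval_map, ← ha, Polynomial.eval₂_hom] at hz
    rw [hz, map_zero]
  rw [← hFmap, Polynomial.eval_map, Polynomial.eval₂_hom, h1, map_zero]

end CfsgLib.HalfDegree
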