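import Cfsg.Agent.Lib.HalfDegree.Centralizer
import Cfsg.Agent.Lib.HalfDegree.Residue

/-!
# A cyclic lattice and its reduction
-/

set_option autoImplicit false

open scoped ComplexConjugate Classical

namespace CfsgLib.HalfDegree

universe u

open CfsgLib.Char CfsgLib.SmallDegree

/-- What is used of the reduction modulo `p` of the representation. -/
structure IsReduced {G : Type u} [Group G] {p : ℕ} (P : Sylow p G) (e : ℕ) {k : Type*} [Field k]
    (R : G →* Matrix (Fin e) (Fin e) k) (n a : G) (i : ℕ) (β : k) (v : Fin e → k) : Prop where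
  card_P : Nat.card (P : Subgroup G) = p
  five_le : 5 ≤ p
  deg : 2 * e + 1 = p
  not_normal : ¬ (P : Subgroup G).Normal
  inj : Function.Injective R
  mem_P : a ∈ (P : Subgroup G)
  ne_one : a ≠ 1
  nil : ∀ s ∈ (P : Subgroup G), (R s - 1) ^ e = 0
  mem_nor : n ∈ Subgroup.normalizer ((P : Subgroup G) : Set G)
  conj_eq : n * a * n⁻¹ = a ^ i
  prim : ∀ t : ℕ, (i : k) ^ t = 1 ↔ e ∣ t
  gen : ∀ x ∈ Subgroup.normalizer ((P : Subgroup G) : Set G),
    ∃ t : ℕ, ∃ z ∈ Subgroup.center G, ∃ s ∈ (P : Subgroup G), x = n ^ t * z * s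
  cen : ∀ c ∈ Subgroup.centralizer ((P : Subgroup G) : Set G),
    ∃ z ∈ Subgroup.center G, ∃ s ∈ (P : Subgroup G), c = z * s
  central : ∀ z ∈ Subgroup.center G, ∃ μ : k, R z = Matrix.scalar (Fin e) μ
  pow_n : R n ^ e = Matrix.scalar (Fin e) (β ^ e)
  trace_pow : ∀ t : ℕ, ¬ e ∣ t → (R n ^ t).trace = 0
  β_ne : β ≠ 0
  v_ne : v ≠ 0
  eig : (R n).mulVec v = β • v
  cyclic : ∀ A : Matrix (Fin e) (Fin e) k, (∀ g, Commute (R g) A) → A.mulVec v = 0 → A = 0

variable {G : Type u} [Group G] [Fintype G]

/-- An integral form generated over the group by a given vector. -/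
theorem exists_cyclic_form (O : ValuationSubring ℂ) {d : ℕ} (ρ : Representation ℂ G (Fin d → ℂ))
    (v : Fin d → ℂ) (hv : Submodule.span ℂ (Set.range fun g => ρ g v) = ⊤) :
    ∃ (r : ℕ) (c : Module.Basis (Fin r) ℂ (Fin d → ℂ)) (σ : G →* Matrix (Fin r) (Fin r) O)
      (v₀ : Fin r → O), (∀ g, LinearMap.toMatrixAlgEquiv c (ρ g) = (σ g).map O.subtype) ∧
      (∀ j, c.repr v j = (v₀ j : ℂ)) ∧
      Submodule.span O (Set.range fun g => (σ g).mulVec v₀) = ⊤ := by
  let S : Set (Fin d → ℂ) := Set.range fun g => ρ g v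
  let L : Submodule O (Fin d → ℂ) := Submodule.span O S
  haveI : Module.Finite O L := Module.Finite.span_of_finite O (Set.finite_range _)
  haveI : Module.IsTorsionFree O L := inferInstance
  haveI : Module.Flat O L := by
    rw [Module.Flat.flat_iff_torsion_eq_bot_of_isBezout,
      ← Submodule.isTorsionFree_iff_torsion_eq_bot]
    infer_instance
  haveI : Module.Free O L := Module.free_of_flat_of_isLocalRing
  let c := Module.finBasis O L
  set r := Module.finrank O L
  have hind : LinearIndependent ℂ (fun i => ((c i : L) : Fin d → ℂ)) := by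
    rw [← LinearIndependent.iff_fractionRing O ℂ]
    exact c.linearIndependent.map' L.subtype L.ker_subtype
  have hspan : ⊤ ≤ Submodule.span ℂ (Set.range fun i => ((c i : L) : Fin d → ℂ)) := by
    rw [← hv, Submodule.span_le]
    rintro _ ⟨g, rfl⟩
    have hi : ρ g v ∈ L := Submodule.subset_span ⟨g, rfl⟩
    have h := congrArg L.subtype (c.sum_repr ⟨_, hi⟩)
    simp only [map_sum, map_smul, Submodule.subtype_apply] at h
    change ρ g v ∈ _
    rw [← h]
    refine Submodule.sum_mem _ fun j _ => ?_
    exact Submodule.smul_of_tower_mem _ _ (Submodule.subset_span ⟨j, rfl⟩)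
  let C := Module.Basis.mk hind hspan
  have hinv : ∀ g, ∀ w ∈ L, ρ g w ∈ L := by
    intro g w hw
    induction hw using Submodule.span_induction with
    | mem w hw =>
      obtain ⟨h, rfl⟩ := hw
      exact Submodule.subset_span ⟨g * h, by simp⟩
    | zero => simp
    | add a b _ _ ha hb => rw [map_add]; exact add_mem ha hb
    | smul a w _ hw =>
      rw [show (a • w : Fin d → ℂ) = (a : ℂ) • w from rfl, map_smul]
      exact Submodule.smul_mem _ a hw
  let τ : G →* Module.End O L :=
    { toFun := fun g =>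
        { toFun := fun w => ⟨ρ g w, hinv g w w.2⟩
          map_add' := fun w w' => Subtype.ext (map_add (ρ g) _ _)
          map_smul' := fun a w => Subtype.ext (by
            change ρ g ((a : ℂ) • (w : Fin d → ℂ)) = (a : ℂ) • ρ g w
            exact map_smul _ _ _) }
      map_one' := LinearMap.ext fun w => Subtype.ext (by simp)
      map_mul' := fun g h => LinearMap.ext fun w => Subtype.ext (by simp) }
  have hvL : v ∈ L := Submodule.subset_span ⟨1, by simp⟩
  have hrepr : ∀ w : L, ∀ j, C.repr (w : Fin d → ℂ) j = ((c.repr w j : O) : ℂ) := by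
    intro w j
    have h := congrArg L.subtype (c.sum_repr w)
    simp only [map_sum, map_smul, Submodule.subtype_apply] at h
    have h2 : (w : Fin d → ℂ) = ∑ i, ((c.repr w i : O) : ℂ) • C i := by
      simp only [C, Module.Basis.mk_apply]
      exact h.symm
    rw [h2, C.repr_sum_self]
  refine ⟨r, C, (LinearMap.toMatrixAlgEquiv c).toAlgHom.toMonoidHom.comp τ,
    fun j => c.repr ⟨v, hvL⟩ j, fun g => ?_, fun j => hrepr ⟨v, hvL⟩ j, ?_⟩
  · ext i j
    rw [LinearMap.toMatrixAlgEquiv_apply,
      show ρ g (C j) = ((τ g (c j) : L) : Fin d → ℂ) by simp [C, τ], hrepr]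
    simp [LinearMap.toMatrixAlgEquiv_apply]
  · have himg : ∀ g, (LinearMap.toMatrixAlgEquiv c (τ g)).mulVec (fun j => c.repr ⟨v, hvL⟩ j) =
        c.equivFun (τ g ⟨v, hvL⟩) := fun g => by
      rw [Module.Basis.equivFun_apply]
      exact LinearMap.toMatrix_mulVec_repr c c (τ g) ⟨v, hvL⟩
    have hL : ∀ w ∈ L, ∀ hw : w ∈ L, c.equivFun ⟨w, hw⟩ ∈ Submodule.span O (Set.range fun g =>
        (LinearMap.toMatrixAlgEquiv c (τ g)).mulVec fun j => c.repr ⟨v, hvL⟩ j) := by
      intro w hw
      induction hw using Submodule.span_induction with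
      | mem w hw =>
        obtain ⟨g, rfl⟩ := hw
        intro hw'
        exact Submodule.subset_span ⟨g, by
          dsimp only
          rw [himg]
          rfl⟩
      | zero =>
        intro hw'
        rw [show (⟨0, hw'⟩ : L) = 0 from rfl, map_zero]
        exact zero_mem _
      | add a b ha hb iha ihb =>
        intro hw'
        rw [show (⟨a + b, hw'⟩ : L) = ⟨a, ha⟩ + ⟨b, hb⟩ from rfl, map_add]
        exact add_mem (iha ha) (ihb hb)
      | smul x w hw ih =>
        intro hw'
        rw [show (⟨x • w, hw'⟩ : L) = x • ⟨w, hw⟩ from rfl, map_smul]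
        exact Submodule.smul_mem _ x (ih hw)
    refine eq_top_iff.2 fun y _ => ?_
    obtain ⟨⟨w, hw⟩, rfl⟩ := c.equivFun.surjective y
    exact hL w hw hw

variable {p : ℕ} [Fact p.Prime] {P : Sylow p G} {χ : G → ℂ}

/-- The reduction of a cyclic lattice. -/
theorem Half.exists_reduced (hh : Half P χ) :
    ∃ (O : ValuationSubring ℂ) (_ : (p : ℂ) ∈ O.nonunits)
      (R : G →* Matrix (Fin (degree χ)) (Fin (degree χ)) (IsLocalRing.ResidueField O))
      (n a : G) (i : ℕ) (β : IsLocalRing.ResidueField O)
      (v : Fin (degree χ) → IsLocalRing.ResidueField O),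
      IsReduced P (degree χ) R n a i β v := by
  have hp : p.Prime := Fact.out
  set h := hh.unif
  obtain ⟨n, a, i, ha, hnp, hconj, hprim, hmem, hgen⟩ := hh.exists_generator
  have hdeg := hh.deg
  obtain ⟨e, he⟩ : ∃ e, degree χ = e := ⟨_, rfl⟩
  rw [he] at hprim hmem hdeg ⊢
  obtain ⟨d, ρ, hρirr, hρ⟩ := hh.irr
  have hd : d = e := by rw [← he, ← hρ, degree_character]; simp
  have he0 : 0 < d := by
    have h2 := hdeg
    have h3 := hh.five_le
    omega
  haveI : Nontrivial (Fin d → ℂ) :=
    Module.nontrivial_of_finrank_pos (R := ℂ) (by simpa using he0)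
  -- central elements are scalar
  have hscal : ∀ z ∈ Subgroup.center G, ∃ ω : ℂ, ρ z = ω • LinearMap.id := fun z hz =>
    exists_scalar_of_commute ρ (ρ z) fun y => by
      rw [← map_mul, ← map_mul, Subgroup.mem_center_iff.1 hz y]
  -- the power of `n` by the degree is central
  have hne : ((n ^ e : nor P) : G) ∈ Subgroup.center G := by
    obtain ⟨z, hz, s, hs, e1⟩ := hh.exists_center_mul ((hmem _).2 dvd_rfl)
    have hcomm : Commute z s := (Subgroup.mem_center_iff.1 hz s).symm
    have h1 : ((n ^ e : nor P) : G) ^ orderOf n = 1 := by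
      rw [← SubmonoidClass.coe_pow, ← pow_mul, mul_comm, pow_mul, pow_orderOf_eq_one, one_pow,
        OneMemClass.coe_one]
    rw [e1, hcomm.mul_pow] at h1
    have h2 : s ^ orderOf n = 1 := by
      refine hh.eq_one_of_mem_center (Subgroup.pow_mem _ hs _) ?_
      rw [eq_inv_of_mul_eq_one_right h1]
      exact Subgroup.inv_mem _ (Subgroup.pow_mem _ hz _)
    have h3 : s = 1 := by
      have h4 : orderOf s ∣ Nat.card (P : Subgroup G) :=
        Subgroup.orderOf_dvd_natCard _ hs
      rw [hh.card_P] at h4
      rcases (Nat.dvd_prime hp).1 h4 with h5 | h5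
      · exact orderOf_eq_one_iff.1 h5
      · exact absurd (h5.symm.dvd.trans (orderOf_dvd_of_pow_eq_one h2)) hnp
    rw [e1, h3, mul_one]
    exact hz
  -- an eigenvector
  obtain ⟨b, hb⟩ := Module.End.exists_eigenvalue (ρ (n : G))
  obtain ⟨w, hw⟩ := hb.exists_hasEigenvector
  have hbpow : ∀ t : ℕ, (ρ (n : G) ^ t) w = b ^ t • w := by
    intro t
    induction t with
    | zero => simp
    | succ t ih =>
      rw [pow_succ', Module.End.mul_apply, ih, map_smul, hw.apply_eq_smul, smul_smul, pow_succ]
  have hb0 : b ^ orderOf n = 1 := by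
    have h1 := hbpow (orderOf n)
    rw [← map_pow, ← SubmonoidClass.coe_pow, pow_orderOf_eq_one, OneMemClass.coe_one, map_one] at h1
    exact smul_left_injective ℂ hw.2 (by simpa using h1.symm)
  obtain ⟨ω, hω⟩ := hscal _ hne
  have hωb : ω = b ^ e := by
    have h1 := hbpow (e)
    rw [← map_pow, ← SubmonoidClass.coe_pow, hω] at h1
    exact smul_left_injective ℂ hw.2 (by simpa using h1)
  -- a lattice generated by it
  have hspan : Submodule.span ℂ (Set.range fun g => ρ g w) = ⊤ := by
    refine (CharKernel.eq_bot_or_eq_top ρ _ fun g y hy => ?_).resolve_left fun e => ?_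
    · induction hy using Submodule.span_induction with
      | mem y hy =>
        obtain ⟨x, rfl⟩ := hy
        exact Submodule.subset_span ⟨g * x, by simp⟩
      | zero => simp
      | add a b _ _ ha hb => rw [map_add]; exact add_mem ha hb
      | smul a y _ hy => rw [map_smul]; exact Submodule.smul_mem _ a hy
    · refine hw.2 ?_
      have : ρ 1 w ∈ Submodule.span ℂ (Set.range fun g => ρ g w) :=
        Submodule.subset_span ⟨1, rfl⟩
      rw [e, map_one] at this
      exact this
  obtain ⟨O, hO⟩ := LatticeFix.exists_subring p hp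
  obtain ⟨r, c, σ, v₀, hσ, hv₀, hspanO⟩ := exists_cyclic_form O ρ w hspan
  obtain rfl : e = r := by
    rw [← hd]
    simpa using Module.finrank_eq_card_basis c
  have hΦ : Function.Injective fun M : Matrix (Fin e) (Fin e) O => M.map O.subtype :=
    Matrix.map_injective O.subtype_injective
  have htr : ∀ g, ((σ g).trace : ℂ) = χ g := fun g => by
    rw [← hρ, Representation.character, LinearMap.trace_eq_matrix_trace ℂ c,
      show LinearMap.toMatrix c c (ρ g) = _ from hσ g]
    exact AddMonoidHom.map_trace O.subtype.toAddMonoidHom (σ g)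
  have hscalO : ∀ g (z : ℂ), ρ g = z • LinearMap.id →
      ∃ μ : O, (μ : ℂ) = z ∧ σ g = Matrix.scalar (Fin e) μ := by
    intro g z hz
    have h1 : (σ g).map O.subtype = Matrix.scalar (Fin e) z := by
      rw [← hσ, hz, map_smul, ← Module.End.one_eq_id, map_one]
      ext x y
      by_cases hxy : x = y <;> simp [hxy]
    have i₀ : Fin e := ⟨0, by omega⟩
    have h2 := congrFun (congrFun h1 i₀) i₀
    refine ⟨σ g i₀ i₀, by simpa using h2, hΦ ?_⟩
    dsimp only
    rw [h1]
    ext x y
    by_cases hxy : x = y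
    · subst hxy; simpa using h2.symm
    · simp [hxy]
  set K := IsLocalRing.ResidueField O
  set π := IsLocalRing.residue O
  haveI : CharP K p := (CharP.charP_iff_prime_eq_zero hp).2 (by
    have := LatticeFix.residue_natCast_eq_zero hO
    rwa [map_natCast] at this)
  let R : G →* Matrix (Fin e) (Fin e) K := (π.mapMatrix (m := Fin e)).toMonoidHom.comp σ
  have hR : ∀ g, R g = (σ g).map π := fun g => rfl
  have hinj : Function.Injective R := by
    rw [← MonoidHom.ker_eq_bot_iff, Subgroup.eq_bot_iff_forall]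
    by_contra hcon
    push Not at hcon
    obtain ⟨x, hx, hx1⟩ := hcon
    have hpg : IsPGroup p R.ker := by
      rw [IsPGroup.iff_orderOf]
      rintro ⟨g, hg⟩
      rw [Subgroup.orderOf_mk]
      by_contra hnot
      push Not at hnot
      obtain ⟨q, hq, hqd, hqp⟩ : ∃ q, q.Prime ∧ q ∣ orderOf g ∧ q ≠ p := by
        by_contra hall
        push Not at hall
        exact hnot _ (Nat.eq_prime_pow_of_unique_prime_dvd (orderOf_pos g).ne'
          fun hq hqd => hall _ hq hqd)
      set g' := g ^ (orderOf g / q)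
      have hord : orderOf g' = q := orderOf_pow_orderOf_div (orderOf_pos g).ne' hqd
      have hg' : R g' = 1 := by
        rw [map_pow, show R g = 1 from hg, one_pow]
      set M := ∑ j ∈ Finset.range q, σ g' ^ j with hM
      have h1 : (σ g' - 1) * M = 0 := by
        rw [hM, mul_geom_sum, ← map_pow, ← hord, pow_orderOf_eq_one, map_one, sub_self]
      have h2 : IsUnit M := by
        rw [Matrix.isUnit_iff_isUnit_det, ← IsLocalRing.residue_ne_zero_iff_isUnit, RingHom.map_det,
          hM, map_sum]
        simp only [map_pow]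
        rw [show π.mapMatrix (σ g') = 1 from hg']
        simp only [one_pow, Finset.sum_const, Finset.card_range, nsmul_eq_mul, mul_one]
        rw [← map_natCast (Matrix.scalar (Fin e)), Matrix.scalar_apply, Matrix.det_diagonal,
          Finset.prod_const]
        refine pow_ne_zero _ ?_
        rw [Ne, CharP.cast_eq_zero_iff K p]
        exact fun hdvd => hqp ((Nat.prime_dvd_prime_iff_eq hp hq).1 hdvd).symm
      have h3 : σ g' = 1 := sub_eq_zero.1 (h2.mul_left_eq_zero.1 h1)
      have h4 : g' = 1 := by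
        refine hh.faithful _ ?_
        rw [← htr g', ← htr 1, h3, map_one]
      rw [h4, orderOf_one] at hord
      exact hq.ne_one hord.symm
    have hsup : IsPGroup p (R.ker ⊔ (P : Subgroup G) : Subgroup G) :=
      hpg.to_sup_of_normal_left P.2
    have hle : R.ker ≤ (P : Subgroup G) := le_trans le_sup_left (P.3 hsup le_sup_right).le
    have hcard : Nat.card R.ker ∣ p := hh.card_P ▸ Subgroup.card_dvd_of_le hle
    rcases (Nat.dvd_prime hp).1 hcard with h5 | h5
    · exact hx1 (Subgroup.eq_bot_iff_forall _ |>.1 (Subgroup.eq_bot_of_card_eq _ h5) x hx)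
    · refine hh.not_normal ?_
      rw [← Subgroup.eq_of_le_of_card_ge hle (by rw [h5, hh.card_P])]
      infer_instance
  have hnil : ∀ s ∈ (P : Subgroup G), (R s - 1) ^ e = 0 := by
    intro s hs
    -- the characteristic polynomial
    have hsp : R s ^ p = 1 := by
      rw [← map_pow]
      have h1 := congrArg (fun z : (P : Subgroup G) => (z : G))
        (pow_card_eq_one' (x := (⟨s, hs⟩ : (P : Subgroup G))))
      rw [hh.card_P] at h1
      simp only [SubmonoidClass.coe_pow, OneMemClass.coe_one] at h1
      rw [h1, map_one]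
    have h1 : (R s - 1) ^ p = 0 := by
      haveI : Nonempty (Fin e) := ⟨⟨0, by omega⟩⟩
      haveI : CharP (Matrix (Fin e) (Fin e) K) p := (CharP.charP_iff_prime_eq_zero hp).2 (by
        rw [← map_natCast (Matrix.scalar (Fin e)), CharP.cast_eq_zero, map_zero])
      rw [sub_pow_char_of_commute p (Commute.one_right _), hsp, one_pow, sub_self]
    have h3 := pow_mul_eq_zero_of_rank (E := (1 : Matrix (Fin e) (Fin e) K)) (x := R s - 1)
      (one_mul 1) (Commute.one_right _) ⟨p, h1⟩ (r := e) (by
        rw [Matrix.mulVecLin_one, LinearMap.range_id, finrank_top, Module.finrank_fintype_fun_eq_card,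
          Fintype.card_fin])
    rwa [mul_one] at h3
  have hbO : b ∈ O := LatticeFix.root_mem (orderOf_pos n).ne' hb0
  set v : Fin e → K := fun j => π (v₀ j)
  have hred : ∀ g, (R g).mulVec v = fun j => π ((σ g).mulVec v₀ j) := by
    intro g
    funext j
    exact (RingHom.map_mulVec π (σ g) v₀ j).symm
  refine ⟨O, hO, R, n, a, i, π ⟨b, hbO⟩, v,
    ⟨hh.card_P, hh.five_le, hdeg, hh.not_normal, hinj, a.2, fun h1 => ha (Subtype.ext h1), hnil,
      n.2, hconj, fun t => ?_, fun x hx => ?_, fun x hx => hh.exists_center_mul hx, fun z hz => ?_,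
      ?_, fun t ht => ?_, ?_, ?_, ?_, fun A hA hAv => ?_⟩⟩
  · rw [← hprim t]
    have : ∀ t : ℕ, ((i : K) ^ t = 1) ↔ ((i ^ t : ℕ) : ZMod p) = 1 := fun t => by
      rw [← Nat.cast_pow, ← Nat.cast_one (R := K), ← Nat.cast_one (R := ZMod p),
        CharP.natCast_eq_natCast K p, CharP.natCast_eq_natCast (ZMod p) p]
    rw [this, Nat.cast_pow]
  · obtain ⟨t, ht⟩ := hgen ⟨x, hx⟩
    obtain ⟨z, hz, s, hs, e1⟩ := hh.exists_center_mul ht
    refine ⟨t, z, hz, s, hs, ?_⟩
    rw [mul_assoc, ← e1, ← SubmonoidClass.coe_pow]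
    simp
  · obtain ⟨z', hz'⟩ := hscal z hz
    obtain ⟨μ, -, hμ⟩ := hscalO z z' hz'
    refine ⟨π μ, ?_⟩
    rw [hR, hμ]
    ext x y
    by_cases hxy : x = y <;> simp [hxy]
  · obtain ⟨μ, hμ, hμσ⟩ := hscalO _ ω hω
    rw [← map_pow, ← SubmonoidClass.coe_pow, hR, hμσ, ← map_pow,
      show (⟨b, hbO⟩ : O) ^ e = μ from Subtype.ext (by simpa [hμ] using hωb.symm)]
    ext x y
    by_cases hxy : x = y <;> simp [hxy]
  · have h1 : ((n ^ t : nor P) : G) ∉ cen P := fun h2 => ht ((hmem t).1 h2)
    have h2 := hh.apply_eq_zero _ h1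
    rw [← htr] at h2
    rw [← map_pow, ← SubmonoidClass.coe_pow, hR]
    have h3 : (σ ((n ^ t : nor P) : G)).trace = 0 := Subtype.ext (by simpa using h2)
    rw [← map_zero π, ← h3]
    exact (AddMonoidHom.map_trace π.toAddMonoidHom _).symm
  · intro h0
    have h1 : (⟨b, hbO⟩ : O) ^ orderOf n = 1 := Subtype.ext (by simpa using hb0)
    have h2 := congrArg π h1
    rw [map_pow, h0, zero_pow (orderOf_pos n).ne', map_one] at h2
    exact zero_ne_one h2
  · intro h0
    -- otherwise the orbit would lie in the maximal ideal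
    have h1 : ∀ y : Fin e → O, (fun j => π (y j)) = 0 := by
      intro y
      have hy : y ∈ Submodule.span O (Set.range fun g => (σ g).mulVec v₀) := hspanO ▸ trivial
      induction hy using Submodule.span_induction with
      | mem y hy =>
        obtain ⟨g, rfl⟩ := hy
        rw [← hred, h0, Matrix.mulVec_zero]
      | zero => funext j; simp
      | add a b _ _ ha hb =>
        funext j
        simp [congrFun ha j, congrFun hb j]
      | smul x y _ hy => funext j; simp [congrFun hy j]
    have h2 := congrFun (h1 fun _ => 1) ⟨0, by omega⟩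
    simp at h2
  · rw [hred]
    funext j
    have h1 : (σ (n : G)).mulVec v₀ = (⟨b, hbO⟩ : O) • v₀ := by
      funext j
      apply O.subtype_injective
      rw [RingHom.map_mulVec, ← hσ,
        show (O.subtype ∘ v₀) = ⇑(c.repr w) from funext fun j => (hv₀ j).symm]
      rw [show LinearMap.toMatrixAlgEquiv c (ρ n) = LinearMap.toMatrix c c (ρ n) from rfl,
        LinearMap.toMatrix_mulVec_repr, hw.apply_eq_smul, map_smul]
      simp [hv₀]
    simp [h1, v]
  · refine Matrix.ext_iff_mulVec.2 fun y => ?_
    rw [Matrix.zero_mulVec]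
    obtain ⟨z, rfl⟩ : ∃ z : Fin e → O, y = fun j => π (z j) := by
      choose z hz using fun j => IsLocalRing.residue_surjective (y j)
      exact ⟨z, funext fun j => (hz j).symm⟩
    have hz : z ∈ Submodule.span O (Set.range fun g => (σ g).mulVec v₀) := hspanO ▸ trivial
    induction hz using Submodule.span_induction with
    | mem z hz =>
      obtain ⟨g, rfl⟩ := hz
      rw [← hred, Matrix.mulVec_mulVec, ← (hA g).eq, ← Matrix.mulVec_mulVec, hAv,
        Matrix.mulVec_zero]
    | zero =>
      rw [show (fun j => π ((0 : Fin e → O) j)) = 0 from funext fun j => map_zero π,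
        Matrix.mulVec_zero]
    | add a b _ _ ha hb =>
      rw [show (fun j => π ((a + b) j)) = (fun j => π (a j)) + fun j => π (b j) from
        funext fun j => map_add π _ _, Matrix.mulVec_add, ha, hb, add_zero]
    | smul x z _ hz =>
      rw [show (fun j => π ((x • z) j)) = π x • fun j => π (z j) from
        funext fun j => map_mul π x (z j), Matrix.mulVec_smul, hz, smul_zero]

end CfsgLib.HalfDegree
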