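import Cfsg.Agent.Lib.HalfDegree.Setup
import Mathlib.GroupTheory.SpecificGroups.Cyclic

/-!
# The normalizer of the Sylow subgroup, and the restriction to it
-/

set_option autoImplicit false

open scoped ComplexConjugate Classical

namespace CfsgLib.HalfDegree

universe u

open CfsgLib.Char CfsgLib.SmallDegree

variable {G : Type u} [Group G] [Fintype G] {p : ℕ} [Fact p.Prime] {P : Sylow p G} {χ : G → ℂ}

theorem Half.unif (hh : Half P χ) : Uniform P := uniform_of_card_prime hh.card_P

theorem Half.isChar (hh : Half P χ) : Cfsg.IsCharacter G χ := IsIrrCharacter.isCharacter hh.irr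

theorem Half.mult_le_one (hh : Half P χ) (η : Cfsg.IrrCharacter (cen P))
    (hη : mult χ η ≠ 0) :
    mult χ η = 1 ∧ degree (η : cen P → ℂ) = 1 ∧
      ∀ η', mult χ η' ≠ 0 → hh.unif.lam η' = hh.unif.lam η → η' = η := by
  set h := hh.unif
  have hw : h.weight χ (h.lam η) = 1 := hh.weight_eq _ (h.mem_supp.2 ⟨η, hη, rfl⟩)
  have hmem : η ∈ Finset.univ.filter (fun μ => h.lam μ = h.lam η) := by simp
  have hle : wt χ η ≤ 1 := hw ▸ Finset.single_le_sum (f := fun μ => wt χ μ)
    (fun _ _ => Nat.zero_le _) hmem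
  have hpos : 0 < wt χ η := wt_pos.2 hη
  have h1 : mult χ η * degree (η : cen P → ℂ) = 1 := by
    have : wt χ η = 1 := by omega
    exact this
  obtain ⟨h2, h3⟩ := mul_eq_one.1 h1
  refine ⟨h2, h3, fun η' hη' he => ?_⟩
  by_contra hne
  have h4 : ∑ μ ∈ {η', η}, wt χ μ ≤ 1 := by
    rw [← hw]
    refine Finset.sum_le_sum_of_subset fun μ hμ => ?_
    rcases Finset.mem_insert.1 hμ with rfl | hμ
    · simp [he]
    · rw [Finset.mem_singleton.1 hμ]; exact hmem
  rw [Finset.sum_pair hne] at h4
  have := (wt_pos (f := χ)).2 hη'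
  omega

/-- The number of constituents on the centralizer. -/
theorem Half.card_constituents (hh : Half P χ) :
    (Finset.univ.filter fun η : Cfsg.IrrCharacter (cen P) => mult χ η ≠ 0).card = degree χ := by
  rw [← sum_wt (P := P) hh.isChar, Finset.card_eq_sum_ones, Finset.sum_filter]
  refine Finset.sum_congr rfl fun η _ => ?_
  split_ifs with hη
  · obtain ⟨h1, h2, -⟩ := hh.mult_le_one η hη
    rw [wt, h1, h2]
  · rw [not_not] at hη
    simp [wt, hη]

/-- The character vanishes on the normalizer outside the centralizer. -/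
theorem Half.apply_eq_zero (hh : Half P χ) (m : nor P) (hm : (m : G) ∉ cen P) : χ (m : G) = 0 := by
  obtain ⟨n, ρ, hρ⟩ := hh.isChar
  subst hρ
  set h := hh.unif
  have hw : h.weight ρ.character (1 : (P : Subgroup G) →* ℂˣ) = 0 := by
    by_contra hne
    exact hh.one_notMem ((h.weight_pos_iff hh.isChar _).1 hne)
  set T := proj ρ (1 : (P : Subgroup G) →* ℂˣ) with hT
  have htr : LinearMap.trace ℂ _ T = 0 := by rw [trace_proj h, hw]; simp
  have hTdef : T = ∑ s : (P : Subgroup G), ρ (s : G) := by simp [hT, proj]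
  have hTs : ∀ s : (P : Subgroup G), ρ (s : G) * T = T := by
    intro s
    rw [hTdef, Finset.mul_sum]
    exact Fintype.sum_equiv (Equiv.mulLeft s) _ _ fun t => by simp
  have hp0 : (p : ℂ) ≠ 0 := Nat.cast_ne_zero.2 (Fact.out : p.Prime).ne_zero
  have hcard : Fintype.card (P : Subgroup G) = p := by
    rw [← Nat.card_eq_fintype_card, hh.card_P]
  have hproj : LinearMap.IsProj (LinearMap.range T) ((p : ℂ)⁻¹ • T) := by
    refine ⟨fun v => ⟨(p : ℂ)⁻¹ • v, map_smul _ _ _⟩, ?_⟩
    rintro _ ⟨v, rfl⟩
    have h2 : T (T v) = (p : ℂ) • T v := by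
      conv_lhs => rw [show T (T v) = (∑ s : (P : Subgroup G), ρ (s : G)) (T v) by rw [← hTdef]]
      rw [LinearMap.sum_apply, Finset.sum_congr rfl (fun (s : (P : Subgroup G)) _ =>
        show ρ (s : G) (T v) = T v from congrArg (fun F => F v) (hTs s)), Finset.sum_const,
        Finset.card_univ, hcard, Nat.cast_smul_eq_nsmul]
    rw [LinearMap.smul_apply, h2, smul_smul, inv_mul_cancel₀ hp0, one_smul]
  have hT0 : T = 0 := by
    have h1 := hproj.trace
    rw [map_smul, htr, smul_zero, eq_comm, Nat.cast_eq_zero, Submodule.finrank_eq_zero,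
      LinearMap.range_eq_bot] at h1
    exact h1
  have hconj : ∀ s : (P : Subgroup G), ρ.character ((m : G) * s) = ρ.character (m : G) := by
    let φ : ↥(P : Subgroup G) → ↥(P : Subgroup G) := fun t => (conjP m⁻¹ t) * t⁻¹
    have hinj : Function.Injective φ := by
      intro a b hab
      simp only [φ] at hab
      have hc : ∀ x y : (P : Subgroup G), x * y = y * x := fun x y => by
        have := Subgroup.mem_center_iff.1 (h.incl_central x) (h.incl y)
        exact h.incl_injective (by rw [map_mul, map_mul]; exact this.symm)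
      have h1 : conjP m⁻¹ (a * b⁻¹) = a * b⁻¹ := by
        rw [map_mul, map_inv]
        have : conjP m⁻¹ a = conjP m⁻¹ b * b⁻¹ * a := by rw [← hab, inv_mul_cancel_right]
        rw [this, hc (conjP m⁻¹ b * b⁻¹) a, mul_assoc, mul_assoc, hc b⁻¹,
          mul_inv_cancel_left]
      by_contra hne
      exact hm (inv_mem_iff.1 (mem_cen_of_conjP_fixed h m⁻¹
        (fun e => hne (mul_inv_eq_one.1 e)) h1))
    intro s
    obtain ⟨t, rfl⟩ := Finite.injective_iff_surjective.1 hinj s
    have e : (m : G) * ((φ t : (P : Subgroup G)) : G) = (t : G) * m * (t : G)⁻¹ := by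
      simp [φ, mul_assoc]
    rw [e, IsCharacter.isClassFunction hh.isChar]
  have hsum : ∑ s : (P : Subgroup G), ρ.character ((m : G) * s) = 0 := by
    simp only [Representation.character, map_mul]
    rw [← map_sum, ← Finset.mul_sum, ← hTdef, hT0, mul_zero, map_zero]
  simp only [hconj, Finset.sum_const, Finset.card_univ, hcard, nsmul_eq_mul] at hsum
  exact (mul_eq_zero.1 hsum).resolve_left hp0

/-- A `p'`-element inducing on `P` a generator of the automorphisms induced by the normalizer. -/
theorem Half.exists_generator (hh : Half P χ) :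
    ∃ (n : nor P) (u : (P : Subgroup G)) (i : ℕ), u ≠ 1 ∧ ¬ p ∣ orderOf n ∧
      (n : G) * u * (n : G)⁻¹ = (u : G) ^ i ∧
      (∀ t : ℕ, (i : ZMod p) ^ t = 1 ↔ degree χ ∣ t) ∧
      (∀ t : ℕ, ((n ^ t : nor P) : G) ∈ cen P ↔ degree χ ∣ t) ∧
      ∀ x : nor P, ∃ t : ℕ, ((n ^ t : nor P)⁻¹ * x : nor P).1 ∈ cen P := by
  set h := hh.unif
  haveI : IsCyclic (P : Subgroup G) := isCyclic_of_prime_card hh.card_P
  let f : nor P →* MulAut (P : Subgroup G) :=
    { toFun := conjP
      map_one' := MulEquiv.ext fun s => Subtype.ext (by simp)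
      map_mul' := fun a b => MulEquiv.ext fun s => Subtype.ext (by simp [mul_assoc]) }
  haveI : Nontrivial (P : Subgroup G) := by
    rw [← Finite.one_lt_card_iff_nontrivial, hh.card_P]; exact (Fact.out : p.Prime).one_lt
  obtain ⟨u, hu⟩ := exists_ne (1 : (P : Subgroup G))
  have hker : ∀ x : nor P, f x = 1 ↔ (x : G) ∈ cen P := by
    intro x
    constructor
    · intro hx
      exact mem_cen_of_conjP_fixed h x hu (by
        have := DFunLike.congr_fun hx u
        exact this)
    · intro hx
      refine MulEquiv.ext fun s => Subtype.ext ?_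
      change (x : G) * s * (x : G)⁻¹ = s
      rw [← Subgroup.mem_centralizer_iff.1 hx s s.2, mul_inv_cancel_right]
  have hrange : Nat.card f.range = degree χ := by
    rw [← Subgroup.index_ker, ← hh.idx_eq, idx]
    congr 1
    ext x
    rw [MonoidHom.mem_ker, hker, Subgroup.mem_subgroupOf]
  haveI : IsCyclic f.range := by
    haveI : IsCyclic (MulAut (P : Subgroup G)) := by
      let e := IsCyclic.mulAutMulEquiv (P : Subgroup G)
      haveI : NeZero (Nat.card (P : Subgroup G)) := ⟨Nat.card_pos.ne'⟩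
      haveI : Fact (Nat.card (P : Subgroup G)).Prime := ⟨by rw [hh.card_P]; exact Fact.out⟩
      exact isCyclic_of_injective e.toMonoidHom e.injective
    infer_instance
  obtain ⟨⟨g, hg⟩, hgen⟩ := IsCyclic.exists_generator (α := f.range)
  obtain ⟨n₀, hn₀⟩ := hg
  have hord : orderOf (f n₀) = degree χ := by
    rw [← hrange, hn₀, ← orderOf_eq_card_of_forall_mem_zpowers hgen, ← Subgroup.orderOf_coe]
  obtain ⟨a, m, hpm, ham⟩ := Nat.exists_eq_pow_mul_and_not_dvd (orderOf_pos n₀).ne' p
    (Fact.out : p.Prime).ne_one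
  set n := n₀ ^ p ^ a with hn
  have hordn : orderOf (f n) = degree χ := by
    rw [hn, map_pow, Nat.Coprime.orderOf_pow, hord]
    rw [hord]
    refine (((Fact.out : p.Prime).coprime_iff_not_dvd.2 fun hd => ?_).pow_left a).symm
    have h5 := hh.deg
    have h6 := hh.five_le
    have := Nat.le_of_dvd (by omega) hd
    omega
  have hcov : ∀ x : nor P, ∃ t : ℕ, f (n ^ t) = f x := by
    intro x
    have hcards : Nat.card (Subgroup.zpowers (f n)) = Nat.card f.range := by
      rw [Nat.card_zpowers, hordn, hrange]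
    have heq : Subgroup.zpowers (f n) = f.range :=
      Subgroup.eq_of_le_of_card_ge (Subgroup.zpowers_le.2 ⟨n, rfl⟩) hcards.ge
    have hx : f x ∈ Subgroup.zpowers (f n) := heq ▸ ⟨x, rfl⟩
    rw [mem_zpowers_iff_mem_range_orderOf] at hx
    obtain ⟨t, -, ht⟩ := Finset.mem_image.1 hx
    exact ⟨t, by rw [map_pow]; exact ht⟩
  obtain ⟨i, hi⟩ : ∃ i : ℕ, conjP n u = u ^ i := by
    have : conjP n u ∈ Subgroup.zpowers u := by
      rw [zpowers_eq_top_of_prime_card hh.card_P hu]
      exact Subgroup.mem_top _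
    rw [mem_zpowers_iff_mem_range_orderOf] at this
    obtain ⟨i, -, hi⟩ := Finset.mem_image.1 this
    exact ⟨i, hi.symm⟩
  have hmem : ∀ t : ℕ, ((n ^ t : nor P) : G) ∈ cen P ↔ degree χ ∣ t := fun t => by
    rw [← hker, map_pow, ← orderOf_dvd_iff_pow_eq_one, hordn]
  have hpow : ∀ t : ℕ, conjP (n ^ t) u = u ^ (i ^ t) := by
    intro t
    induction t with
    | zero => exact Subtype.ext (by simp)
    | succ t ih =>
      have e : conjP (n ^ (t + 1)) u = conjP n (conjP (n ^ t) u) := by
        exact Subtype.ext (by simp [pow_succ', mul_assoc])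
      rw [e, ih, map_pow, hi, ← pow_mul, pow_succ']
  have hou : orderOf u = p := orderOf_eq_prime (by
    have h1 := pow_card_eq_one' (x := u)
    rwa [hh.card_P] at h1) hu
  refine ⟨n, u, i, hu, ?_, congrArg Subtype.val hi, fun t => ?_, hmem, fun x => ?_⟩
  · have h3 : n ^ m = 1 := by rw [hn, ← pow_mul, ← ham, pow_orderOf_eq_one]
    exact fun hd => hpm (hd.trans (orderOf_dvd_of_pow_eq_one h3))
  · rw [← hmem, ← hker]
    constructor
    · intro ht
      rw [hker]
      refine mem_cen_of_conjP_fixed h _ hu ?_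
      rw [hpow]
      conv_rhs => rw [← pow_one u]
      rw [pow_eq_pow_iff_modEq, hou, ← ZMod.natCast_eq_natCast_iff]
      simpa using ht
    · intro ht
      have h1 := DFunLike.congr_fun ht u
      change conjP (n ^ t) u = u at h1
      rw [hpow] at h1
      conv_rhs at h1 => rw [← pow_one u]
      rw [pow_eq_pow_iff_modEq, hou, ← ZMod.natCast_eq_natCast_iff] at h1
      simpa using h1
  · obtain ⟨t, ht⟩ := hcov x
    exact ⟨t, by rw [← hker, map_mul, map_inv, ht, inv_mul_cancel]⟩

end CfsgLib.HalfDegree
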