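import Cfsg.Agent.Lib.SmallDegree.PrimeNormal

/-!
# Faithful characters of degree `(p - 1) / 2`: first consequences
-/

set_option autoImplicit false

open scoped ComplexConjugate Classical

namespace CfsgLib.HalfDegree

universe u

open CfsgLib.Char CfsgLib.SmallDegree

theorem classInner_ne_zero_degree {G : Type u} [Group G] [Fintype G] {f : G → ℂ}
    (hf : Cfsg.IsCharacter G f) {φ : Cfsg.IrrCharacter G}
    (hφ : Cfsg.classInner f (φ : G → ℂ) ≠ 0) :
    degree (φ : G → ℂ) ≤ degree f ∧ (degree f ≤ degree (φ : G → ℂ) → f = (φ : G → ℂ)) := by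
  obtain ⟨c, hc⟩ := IsCharacter.exists_nat_combination hf
  have hcφ : c φ ≠ 0 := fun e => hφ (by
    rw [hc, classInner_sum_smul_irr (fun ψ => (c ψ : ℂ)), e, Nat.cast_zero])
  have h1 := congrFun hc 1
  simp only [Finset.sum_apply, Pi.smul_apply, smul_eq_mul, ← IsCharacter.degree_cast hf,
    ← IsCharacter.degree_cast (IsIrrCharacter.isCharacter (Subtype.prop _))] at h1
  have h2 : degree f = ∑ ψ : Cfsg.IrrCharacter G, c ψ * degree (ψ : G → ℂ) := by
    exact_mod_cast h1
  have h3 := Finset.add_sum_erase Finset.univ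
    (fun ψ : Cfsg.IrrCharacter G => c ψ * degree (ψ : G → ℂ)) (Finset.mem_univ φ)
  rw [← h2] at h3
  have h4 : degree (φ : G → ℂ) ≤ c φ * degree (φ : G → ℂ) :=
    Nat.le_mul_of_pos_left _ (Nat.pos_of_ne_zero hcφ)
  refine ⟨by omega, fun hge => ?_⟩
  have h5 : c φ = 1 := by
    have hpos := IsIrrCharacter.degree_pos φ.2
    have : c φ * degree (φ : G → ℂ) ≤ 1 * degree (φ : G → ℂ) := by omega
    have := Nat.le_of_mul_le_mul_right this hpos
    omega
  have h6 : ∀ ψ, ψ ≠ φ → c ψ = 0 := by
    intro ψ hψ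
    have h0 : ∑ ψ ∈ Finset.univ.erase φ, c ψ * degree (ψ : G → ℂ) = 0 := by omega
    have := Finset.sum_eq_zero_iff.1 h0 ψ (Finset.mem_erase.2 ⟨hψ, Finset.mem_univ _⟩)
    exact (mul_eq_zero.1 this).resolve_right (IsIrrCharacter.degree_pos ψ.2).ne'
  rw [hc, Finset.sum_eq_single φ (fun ψ _ hψ => by simp [h6 ψ hψ])
    (fun hn => absurd (Finset.mem_univ _) hn), h5, Nat.cast_one, one_smul]

variable {G : Type u} [Group G] [Fintype G] {p : ℕ} [Fact p.Prime]

/-- The situation of a faithful character of degree `(p - 1) / 2` with a non-normal Sylow subgroup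
of order `p`. -/
structure Half (P : Sylow p G) (χ : G → ℂ) : Prop where
  card_P : Nat.card (P : Subgroup G) = p
  five_le : 5 ≤ p
  deg : 2 * degree χ + 1 = p
  irr : Cfsg.IsIrrCharacter G χ
  faithful : ∀ g : G, χ g = χ 1 → g = 1
  not_normal : ¬ (P : Subgroup G).Normal
  idx_eq : idx P = degree χ
  one_notMem : (1 : (P : Subgroup G) →* ℂˣ) ∉ (uniform_of_card_prime card_P).supp χ
  weight_eq : ∀ a ∈ (uniform_of_card_prime card_P).supp χ,
    (uniform_of_card_prime card_P).weight χ a = 1
  index_bound : ∀ (O : ValuationSubring ℂ), (p : ℂ) ∈ O.nonunits →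
    ∀ {r : ℕ} (σ : G →* Matrix (Fin r) (Fin r) O), (∀ g, ((σ g).trace : ℂ) = χ g) →
    ∀ k : ℕ, (∀ s ∈ (P : Subgroup G), ((σ s).map (IsLocalRing.residue O) - 1) ^ k = 0) →
      p + 2 < 4 * k

theorem idx_le_idx {K : Subgroup G} (P : Sylow p G) (h : Uniform P)
    (hPK : (P : Subgroup G) ≤ K) :
    idx (P.subtype hPK) ≤ idx P := by
  set Q := P.subtype hPK
  have hN : nor Q = (nor P).subgroupOf K := by
    ext x
    rw [nor, Subgroup.mem_normalizer_iff, Subgroup.mem_subgroupOf, nor, Subgroup.mem_normalizer_iff]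
    constructor
    · intro hx y
      constructor
      · intro hy
        exact ((hx ⟨y, hPK hy⟩).1 hy)
      · intro hy
        have hyK : y ∈ K := by
          have := K.mul_mem (K.mul_mem (K.inv_mem x.2) (hPK hy)) x.2
          simpa [mul_assoc] using this
        exact (hx ⟨y, hyK⟩).2 hy
    · intro hx y
      exact hx y
  have hC : cen Q = (cen P).subgroupOf K := by
    ext x
    rw [cen, Subgroup.mem_centralizer_iff, Subgroup.mem_subgroupOf, cen,
      Subgroup.mem_centralizer_iff]
    constructor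
    · intro hx y hy
      exact congrArg Subtype.val (hx ⟨y, hPK hy⟩ hy)
    · intro hx y hy
      exact Subtype.ext (hx y hy)
  change (cen Q).relIndex (nor Q) ≤ (cen P).relIndex (nor P)
  rw [hN, hC, Subgroup.subgroupOf, Subgroup.relIndex_comap, Subgroup.subgroupOf_map_subtype]
  exact Subgroup.relIndex_le_of_le_right inf_le_left Subgroup.FiniteIndex.index_ne_zero

/-- The situation arising from the hypotheses. -/
theorem exists_half (hdiv : p ∣ Nat.card G) (hsq : ¬ p ^ 2 ∣ Nat.card G)
    (hnn : ∀ H : Subgroup G, H.Normal → Nat.card H ≠ p) {χ : G → ℂ}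
    (hχ : Cfsg.IsCharacter G χ) (hfaith : ∀ g : G, χ g = χ 1 → g = 1)
    (hdeg : 2 * degree χ + 1 = p) : ∃ P : Sylow p G, Half P χ := by
  have hp : p.Prime := Fact.out
  obtain ⟨P⟩ : Nonempty (Sylow p G) := inferInstance
  refine ⟨P, ?_⟩
  have hP : Nat.card (P : Subgroup G) = p := by
    rw [P.card_eq_multiplicity, show (Nat.card G).factorization p = 1 from ?_, pow_one]
    have h1 : 1 ≤ (Nat.card G).factorization p :=
      (hp.dvd_iff_one_le_factorization Nat.card_pos.ne').1 hdiv
    have h2 : ¬ 2 ≤ (Nat.card G).factorization p := fun h2 =>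
      hsq ((Nat.Prime.pow_dvd_iff_le_factorization hp Nat.card_pos.ne').2 h2)
    omega
  have hnot : ¬ (P : Subgroup G).Normal := fun hn => hnn _ hn hP
  -- the normal closure
  set K := Subgroup.normalClosure ((P : Subgroup G) : Set G) with hK
  have hPK : (P : Subgroup G) ≤ K := Subgroup.subset_normalClosure
  haveI : K.Normal := Subgroup.normalClosure_normal
  set Q : Sylow p K := P.subtype hPK with hQ
  have hQG : (Q : Subgroup K).map K.subtype = (P : Subgroup G) := by
    ext x
    constructor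
    · rintro ⟨y, hy, rfl⟩; exact hy
    · exact fun hx => ⟨⟨x, hPK hx⟩, hx, rfl⟩
  have hQc : Nat.card (Q : Subgroup K) = p := by
    refine Eq.trans ?_ hP
    rw [← hQG, Nat.card_congr ((Q : Subgroup K).equivMapOfInjective K.subtype
      K.subtype_injective).toEquiv]
  have hQn : ¬ (Q : Subgroup K).Normal := fun hn => hnot (by
    have : (Q : Subgroup K).Characteristic := Sylow.characteristic_of_normal Q hn
    rw [← hQG]
    infer_instance)
  have hmin : ∀ L : Subgroup K, L.Normal → L ≠ ⊤ → ¬ (Q : Subgroup K) ≤ L := by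
    intro L hL hLt hQL
    refine hLt (eq_top_iff.2 fun x _ => ?_)
    have hle : K ≤ L.map K.subtype := by
      change Subgroup.closure _ ≤ L.map K.subtype
      rw [Subgroup.closure_le]
      intro y hy
      rw [Group.conjugatesOfSet, Set.mem_iUnion₂] at hy
      obtain ⟨z, hz, hc⟩ := hy
      obtain ⟨g, rfl⟩ := isConj_iff.1 hc
      obtain ⟨k, hk⟩ := MulAction.exists_smul_eq K ((g • P).subtype (fun w hw => by
        rw [Sylow.coe_subgroup_smul, Subgroup.mem_pointwise_smul_iff_inv_smul_mem] at hw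
        have := (inferInstance : K.Normal).conj_mem _ (hPK hw) g
        simpa [MulAut.smul_def, mul_assoc] using this)) Q
      have hwK : g * z * g⁻¹ ∈ K := (inferInstance : K.Normal).conj_mem _ (hPK hz) g
      have hwR : g * z * g⁻¹ ∈ ((g • P : Sylow p G) : Subgroup G) := by
        rw [Sylow.coe_subgroup_smul, Subgroup.mem_pointwise_smul_iff_inv_smul_mem]
        simp [MulAut.smul_def, mul_assoc]
        exact hz
      have h1 : k * ⟨g * z * g⁻¹, hwK⟩ * k⁻¹ ∈ (Q : Subgroup K) := by
        rw [← hk, Sylow.coe_subgroup_smul, Subgroup.mem_pointwise_smul_iff_inv_smul_mem]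
        simpa [MulAut.smul_def, mul_assoc, Subgroup.mem_subgroupOf] using hwR
      have h2 := hL.conj_mem _ (hQL h1) k⁻¹
      rw [inv_inv] at h2
      exact ⟨⟨g * z * g⁻¹, hwK⟩, by simpa [mul_assoc] using h2, rfl⟩
    obtain ⟨y, hy, hyx⟩ := hle x.2
    exact (Subtype.ext hyx : y = x) ▸ hy
  have hχK := IsCharacter.restrict hχ K
  have hdegK : degree (fun k : K => χ k) = degree χ := by simp [degree]
  have hQu : Uniform Q := uniform_of_card_prime hQc
  -- a nonlinear constituent on the normal closure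
  obtain ⟨φ, hφ, hφ2⟩ : ∃ φ : Cfsg.IrrCharacter K,
      Cfsg.classInner (fun k : K => χ k) (φ : K → ℂ) ≠ 0 ∧ 2 ≤ degree (φ : K → ℂ) := by
    by_contra hcon
    push Not at hcon
    refine hQn ⟨fun x hx g => ?_⟩
    suffices g * x = x * g by rw [this, mul_inv_cancel_right]; exact hx
    obtain ⟨c, hc⟩ := IsCharacter.exists_nat_combination hχK
    have h1 : g * x * g⁻¹ * x⁻¹ = 1 := by
      refine Subtype.ext (hfaith _ ?_)
      change (fun k : K => χ k) (g * x * g⁻¹ * x⁻¹) = (fun k : K => χ k) 1
      rw [hc]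
      simp only [Finset.sum_apply, Pi.smul_apply, smul_eq_mul]
      refine Finset.sum_congr rfl fun φ _ => ?_
      by_cases hφ : c φ = 0
      · simp [hφ]
      have hlt := hcon φ (by
        rw [hc, classInner_sum_smul_irr (fun ψ => (c ψ : ℂ))]
        exact Nat.cast_ne_zero.2 hφ)
      have hpos := IsIrrCharacter.degree_pos φ.2
      obtain ⟨f, hf⟩ := IsCharacter.exists_linear (IsIrrCharacter.isCharacter φ.2) (by
        rw [← IsCharacter.degree_cast (IsIrrCharacter.isCharacter φ.2),
          show degree (φ : K → ℂ) = 1 by omega, Nat.cast_one])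
      rw [hf, hf, map_mul, map_mul, map_mul, map_inv, map_inv, map_one, mul_right_comm (f g) _ _,
        mul_inv_cancel, one_mul, mul_inv_cancel]
    rwa [mul_inv_eq_one, mul_inv_eq_iff_eq_mul] at h1
  have hφle := (classInner_ne_zero_degree hχK hφ).1
  rw [hdegK] at hφle
  have hno : ¬ (2 * degree (φ : K → ℂ) + 1 < p ∨ 2 * idx Q + 1 < p) := fun hne => by
    have := hQu.degree_le_one_of_half hQc hmin φ (by omega) hne
    omega
  push Not at hno
  have hφeq : (fun k : K => χ k) = (φ : K → ℂ) :=
    (classInner_ne_zero_degree hχK hφ).2 (by rw [hdegK]; omega)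
  have hp5 : 5 ≤ p := by omega
  -- irreducibility over the whole group
  have hirr : Cfsg.IsIrrCharacter G χ := by
    obtain ⟨c, hc⟩ := IsCharacter.exists_nat_combination hχ
    obtain ⟨ψ, hψc, hψ⟩ : ∃ ψ : Cfsg.IrrCharacter G, c ψ ≠ 0 ∧
        Cfsg.classInner (fun k : K => (ψ : G → ℂ) k) (φ : K → ℂ) ≠ 0 := by
      by_contra hcon
      push Not at hcon
      refine hφ ?_
      have e : (fun k : K => χ k) =
          ∑ ψ : Cfsg.IrrCharacter G, (c ψ : ℂ) • fun k : K => (ψ : G → ℂ) k := by
        funext k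
        have := congrFun hc (k : G)
        simpa using this
      rw [e, classInner_sum_left, Finset.sum_eq_zero]
      intro ψ _
      rw [classInner_smul_left]
      by_cases h0 : c ψ = 0
      · simp [h0]
      · rw [hcon ψ h0, mul_zero]
    have h1 := (classInner_ne_zero_degree
      (IsCharacter.restrict (IsIrrCharacter.isCharacter ψ.2) K) hψ).1
    have h2 : degree (fun k : K => (ψ : G → ℂ) k) = degree (ψ : G → ℂ) := by simp [degree]
    have h3 : Cfsg.classInner χ (ψ : G → ℂ) ≠ 0 := by
      rw [hc, classInner_sum_smul_irr (fun ψ => (c ψ : ℂ))]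
      exact Nat.cast_ne_zero.2 hψc
    rw [(classInner_ne_zero_degree hχ h3).2 (by omega)]
    exact ψ.2
  set h := uniform_of_card_prime hP
  obtain ⟨a, ha, ha1⟩ : ∃ a ∈ h.supp χ, a ≠ 1 := by
    by_contra hcon
    push Not at hcon
    refine hnot ?_
    have hbot : (P : Subgroup G) = ⊥ := by
      rw [Subgroup.eq_bot_iff_forall]
      exact fun x hx => hfaith x (h.apply_eq_of_supp hχ
        (fun a ha => Finset.mem_singleton.2 (hcon a ha)) ⟨x, hx⟩)
    rw [hbot]
    infer_instance
  have hcle := h.card_supp_le hχ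
  have hirrN : Cfsg.IsIrrCharacter (nor P) (fun n : nor P => χ n) := by
    refine IsCharacter.isIrrCharacter_of_classInner_self (IsCharacter.restrict hχ (nor P)) ?_
    rw [← LatticeFix.classInner_self_eq h hP hχ (by omega)]
    exact classInner_irr_self hirr
  obtain ⟨h1, hcard, hw⟩ := h.supp_eq_orbit hχ hirrN ha ha1
  have hidx : idx P = degree χ := by
    have h4 : idx Q ≤ idx P := idx_le_idx P h hPK
    omega
  refine ⟨hP, hp5, hdeg, hirr, hfaith, hnot, hidx, h1, fun b hb => ?_, ?_⟩
  · have h4 := h.sum_weight hχ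
    rw [Finset.sum_congr rfl hw, Finset.sum_const, hcard, hidx, smul_eq_mul] at h4
    rw [hw b hb]
    exact (mul_eq_left₀ (show degree χ ≠ 0 by omega)).1 h4
  · intro O hO r σ htr k hnil
    by_contra hle
    push Not at hle
    have hnorm := LatticeFix.classInner_norm_eq_of_nilpotent (P := Q) hO hQc hχK
      (σ.comp K.subtype) (fun g => htr g) (fun s hs => hnil s hs) hle
    have := hQu.degree_le_one_of_norm hQc hmin φ (by rw [← hφeq]; exact hnorm)
    omega

end CfsgLib.HalfDegree
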