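import Cfsg.Agent.Lib.HalfDegree.Triple
import Mathlib.RingTheory.Artinian.Module
import Mathlib.FieldTheory.IsAlgClosed.Basic

/-!
# A three-dimensional summand of the adjoint module
-/

set_option autoImplicit false

open scoped Classical

namespace CfsgLib.HalfDegree

universe u

variable {k : Type*} [Field k] {e : ℕ}

local notation "𝐉" => shift k e
local notation "𝐇" => weightMat k e
local notation "𝐗" => lowerMat k e
local notation "Mat" => Matrix (Fin e) (Fin e) k

/-- The projection on the span of the triple along its orthogonal space. -/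
noncomputable def tripleProj (k : Type*) [Field k] (e : ℕ) :
    Module.End k (Matrix (Fin e) (Fin e) k) :=
  (pairing k e)⁻¹ • ((Matrix.traceLinearMap (Fin e) k k).comp
      (LinearMap.mulRight k (lowerMat k e))).smulRight (shift k e) +
    (2 * pairing k e)⁻¹ • ((Matrix.traceLinearMap (Fin e) k k).comp
      (LinearMap.mulRight k (weightMat k e))).smulRight (weightMat k e) +
    (pairing k e)⁻¹ • ((Matrix.traceLinearMap (Fin e) k k).comp
      (LinearMap.mulRight k (shift k e))).smulRight (lowerMat k e)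

theorem tripleProj_apply (A : Mat) : tripleProj k e A =
    ((pairing k e)⁻¹ * (A * 𝐗).trace) • 𝐉 + ((2 * pairing k e)⁻¹ * (A * 𝐇).trace) • 𝐇 +
      ((pairing k e)⁻¹ * (A * 𝐉).trace) • 𝐗 := by
  simp [tripleProj, smul_smul]

theorem tripleProj_symm (A B : Mat) :
    (tripleProj k e A * B).trace = (A * tripleProj k e B).trace := by
  simp only [tripleProj_apply, add_mul, mul_add, smul_mul_assoc, mul_smul_comm, Matrix.trace_add,
    Matrix.trace_smul, smul_eq_mul, Matrix.trace_mul_comm 𝐉 B, Matrix.trace_mul_comm 𝐇 B,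
    Matrix.trace_mul_comm 𝐗 B]
  ring

variable {G : Type u} [Group G] [Fintype G] {p : ℕ} [Fact p.Prime] {P : Sylow p G}
  [CharP k p] {R : G →* Matrix (Fin e) (Fin e) k} {n a : G} {i : ℕ}

theorem trace_Ad (R : G →* Matrix (Fin e) (Fin e) k) (g : G) (A B : Mat) :
    (Ad R g A * B).trace = (A * Ad R g⁻¹ B).trace := by
  rw [Ad_apply, Ad_apply, inv_inv, mul_assoc (R g * A) (R g⁻¹) B, mul_assoc (R g) A,
    Matrix.trace_mul_comm]
  simp only [mul_assoc]

theorem Ad_comp (R : G →* Matrix (Fin e) (Fin e) k) (g : G) (A : Mat) :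
    Ad R g⁻¹ (Ad R g A) = A := by
  rw [← Module.End.mul_apply, ← map_mul, inv_mul_cancel, map_one, Module.End.one_apply]

theorem commute_proj_of (R : G →* Matrix (Fin e) (Fin e) k) (g : G)
    (hX : ∀ A, ((pairing k e)⁻¹ * (Ad R g A * 𝐗).trace) • 𝐉 +
      ((2 * pairing k e)⁻¹ * (Ad R g A * 𝐇).trace) • 𝐇 +
      ((pairing k e)⁻¹ * (Ad R g A * 𝐉).trace) • 𝐗 =
      Ad R g (tripleProj k e A)) : Commute (Ad R g) (tripleProj k e) :=
  LinearMap.ext fun A => by
    rw [Module.End.mul_apply, Module.End.mul_apply, ← hX, tripleProj_apply (Ad R g A)]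

/-- The projection commutes with the normalizer. -/
theorem IsNormalForm.commute_proj (h : IsNormalForm P e R n a i) {x : G}
    (hx : x ∈ Subgroup.normalizer ((P : Subgroup G) : Set G)) :
    Commute (Ad R x) (tripleProj k e) := by
  obtain ⟨q, μ, hq, hμ, nJ, nH, nX, aJ, aH, aX⟩ := h.conj_triple
  have hc := h.pairing_ne_zero
  have h2 := h.two_ne_zero
  have hsolve : ∀ (g : G) (A B : Mat), R g * A * R g⁻¹ = B → Ad R g⁻¹ B = A := fun g A B hB => by
    rw [← hB, ← Ad_apply, Ad_comp]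
  have hn : Commute (Ad R n) (tripleProj k e) := by
    refine commute_proj_of R n fun A => ?_
    have e1 : Ad R n⁻¹ 𝐉 = q⁻¹ • 𝐉 := by
      have := hsolve n 𝐉 _ nJ
      rw [map_smul] at this
      conv_rhs => rw [← this]
      rw [smul_smul, inv_mul_cancel₀ hq, one_smul]
    have e3 : Ad R n⁻¹ 𝐗 = q • 𝐗 := by
      have := hsolve n 𝐗 _ nX
      rw [map_smul] at this
      conv_rhs => rw [← this]
      rw [smul_smul, mul_inv_cancel₀ hq, one_smul]
    rw [trace_Ad, trace_Ad, trace_Ad, e1, e3, hsolve n 𝐇 _ nH, tripleProj_apply, map_add, map_add,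
      map_smul, map_smul, map_smul, Ad_apply R n 𝐉, Ad_apply R n 𝐇, Ad_apply R n 𝐗, nJ, nH, nX]
    simp only [mul_smul_comm, Matrix.trace_smul, smul_eq_mul, smul_smul]
    congr 2
    · ring_nf
    · ring_nf
  have ha : Commute (Ad R a) (tripleProj k e) := by
    refine commute_proj_of R a fun A => ?_
    have e1 : Ad R a⁻¹ 𝐉 = 𝐉 := hsolve a 𝐉 _ aJ
    have e2 : Ad R a⁻¹ 𝐇 = 𝐇 + μ • 𝐉 := by
      refine hsolve a _ _ ?_
      rw [mul_add, add_mul, mul_smul_comm, smul_mul_assoc, aH, aJ, sub_add_cancel]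
    have e3 : Ad R a⁻¹ 𝐗 = 𝐗 - (μ / 2) • 𝐇 - (μ ^ 2 / 4) • 𝐉 := by
      refine hsolve a _ _ ?_
      simp only [mul_sub, sub_mul, mul_smul_comm, smul_mul_assoc, aH, aJ, aX, smul_sub, smul_smul]
      have h4 : (4 : k) ≠ 0 := by
        rw [show (4 : k) = 2 * 2 by norm_num]
        exact mul_ne_zero h2 h2
      rw [show μ / 2 * μ = μ ^ 2 / 4 + μ ^ 2 / 4 by field_simp; ring, add_smul]
      abel
    rw [trace_Ad, trace_Ad, trace_Ad, e1, e2, e3, tripleProj_apply, map_add, map_add, map_smul,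
      map_smul, map_smul, Ad_apply R a 𝐉, Ad_apply R a 𝐇, Ad_apply R a 𝐗, aJ, aH, aX]
    simp only [mul_add, mul_sub, mul_smul_comm, Matrix.trace_add, Matrix.trace_sub,
      Matrix.trace_smul, smul_eq_mul, smul_add, smul_sub, smul_smul, add_smul, sub_smul]
    rw [mul_inv]
    module
  obtain ⟨t, z, hz, s, hs, rfl⟩ := h.gen x hx
  obtain ⟨ν, hν⟩ := h.central z hz
  have hzAd : Ad R z = 1 := LinearMap.ext fun A => by
    rw [Module.End.one_apply]
    refine (Ad_eq_self_iff R z A).2 ?_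
    rw [hν]
    exact Matrix.scalar_commute ν (fun r => Commute.all _ _) A
  obtain ⟨m, rfl⟩ : ∃ m : ℕ, a ^ m = s := by
    have hne : (⟨a, h.mem_P⟩ : (P : Subgroup G)) ≠ 1 := fun e' => h.ne_one (congrArg Subtype.val e')
    have hmem : (⟨s, hs⟩ : (P : Subgroup G)) ∈ Subgroup.zpowers ⟨a, h.mem_P⟩ := by
      rw [zpowers_eq_top_of_prime_card h.card_P hne]
      exact Subgroup.mem_top _
    rw [mem_zpowers_iff_mem_range_orderOf] at hmem
    obtain ⟨m, -, hm⟩ := Finset.mem_image.1 hmem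
    exact ⟨m, congrArg Subtype.val hm⟩
  rw [map_mul, map_mul, hzAd, mul_one, map_pow, map_pow]
  exact (hn.pow_left t).mul_left (ha.pow_left m)

/-- On the fixed points of `P` the projection is a multiple of the shift. -/
theorem IsNormalForm.proj_fixed (h : IsNormalForm P e R n a i) {A : Mat} (hA : Ad R a A = A) :
    ∃ r : k, tripleProj k e A = r • 𝐉 ∧ tripleProj k e 𝐉 = 𝐉 := by
  have hd := h.deg
  have h5 := h.five_le
  have he : 0 < e := by omega
  have hc := h.pairing_ne_zero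
  have hJJ : (𝐉 * 𝐉 : Mat).trace = 0 := by rw [← sq]; exact trace_shift_pow 2 (by omega)
  have hpJ : tripleProj k e 𝐉 = 𝐉 := by
    rw [tripleProj_apply, trace_shift_weight, hJJ, ← pairing]
    simp [hc]
  refine ⟨A ⟨1, by omega⟩ ⟨0, he⟩, ?_, hpJ⟩
  have hAJ : Commute A 𝐉 := h.comm_shift A ((Ad_eq_self_iff R a A).1 hA).symm
  conv_lhs => rw [eq_sum_of_commute hAJ he]
  rw [map_sum, Finset.sum_eq_single (⟨1, by omega⟩ : Fin e)]
  · rw [map_smul, pow_one, hpJ]
  · intro l _ hl
    have hl1 : (l : ℕ) ≠ 1 := fun h1 => hl (Fin.ext h1)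
    rw [map_smul, tripleProj_apply, trace_lower_shift_pow _ hl1, trace_weight_shift_pow, ← pow_succ,
      trace_shift_pow _ (Nat.succ_ne_zero _)]
    simp
  · exact fun hn => absurd (Finset.mem_univ _) hn

/-- A stable nondegenerate three-dimensional space with a hyperbolic basis. -/
theorem IsNormalForm.exists_summand [IsAlgClosed k] (h : IsNormalForm P e R n a i) :
    ∃ (W : Submodule k Mat) (E H F : Mat) (s : k), s ≠ 0 ∧
      (∀ g, ∀ A ∈ W, Ad R g A ∈ W) ∧ W = Submodule.span k {E, H, F} ∧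
      (E * E).trace = 0 ∧ (H * H).trace = 2 * s ∧ (F * F).trace = 0 ∧ (E * H).trace = 0 ∧
      (E * F).trace = s ∧ (H * F).trace = 0 ∧
      ∀ ε : k, (∀ A ∈ W, Ad R a A = ε • A) → False := by
  obtain ⟨q, μ, hq, hμ, nJ, nH, nX, aJ, aH, aX⟩ := h.conj_triple
  have hd := h.deg
  have h5 := h.five_le
  have hc := h.pairing_ne_zero
  have h2 := h.two_ne_zero
  haveI : Nonempty (Fin e) := ⟨⟨0, by omega⟩⟩
  set τ := Ad R with hτ
  set D := τ a - 1 with hD
  have hDapply : ∀ A, D A = τ a A - A := fun A => by simp [hD]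
  set Pj := tripleProj k e
  have hcommN : ∀ x ∈ Subgroup.normalizer ((P : Subgroup G) : Set G), Commute (τ x) Pj :=
    fun x hx => h.commute_proj hx
  let T : G → Module.End k Mat := fun g => τ g * Pj * τ g⁻¹
  have hT : ∀ (g x : G), x ∈ Subgroup.normalizer ((P : Subgroup G) : Set G) → T (g * x) = T g := by
    intro g x hx
    simp only [T]
    rw [map_mul, mul_inv_rev, map_mul, mul_assoc (τ g), (hcommN x hx).eq, ← mul_assoc (τ g),
      mul_assoc (τ g * Pj), ← mul_assoc (τ x), ← map_mul τ x, mul_inv_cancel, map_one, one_mul]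
  set S := ∑ c : G ⧸ Subgroup.normalizer ((P : Subgroup G) : Set G), T c.out with hS
  have hTsmul : ∀ (g : G) (c : G ⧸ Subgroup.normalizer ((P : Subgroup G) : Set G)),
      T (g • c).out = τ g * T c.out * τ g⁻¹ := by
    intro g c
    have : (g • c) = ((g * c.out : G) : G ⧸ Subgroup.normalizer ((P : Subgroup G) : Set G)) := by
      conv_lhs => rw [← c.out_eq']
      rfl
    rw [this]
    obtain ⟨x, hx⟩ := QuotientGroup.mk_out_eq_mul
      (Subgroup.normalizer ((P : Subgroup G) : Set G)) (g * c.out)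
    rw [hx, hT _ _ x.2]
    simp only [T, map_mul, mul_inv_rev, mul_assoc]
  have hScomm : ∀ g, Commute (τ g) S := by
    intro g
    have h1 : τ g * S * τ g⁻¹ = S := by
      rw [hS, Finset.mul_sum, Finset.sum_mul]
      exact Fintype.sum_equiv (MulAction.toPerm g) _ _ fun c => (hTsmul g c).symm
    change τ g * S = S * τ g
    conv_rhs => rw [← h1]
    rw [mul_assoc, ← map_mul, inv_mul_cancel, map_one, mul_one]
  have hDnil : ∀ s ∈ (P : Subgroup G), (τ s - 1) ^ (p - 1) = 0 := fun s hs =>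
    pow_eq_zero_of_le (by omega) (Ad_nilpotent R h.nil s hs)
  have hsumP : ∑ s : (P : Subgroup G), τ (s : G) = 0 :=
    sum_P_eq_zero (by rw [← map_natCast (algebraMap k (Module.End k Mat)), CharP.cast_eq_zero,
      map_zero]) h.card_P τ hDnil
  have hfixP : ∀ A, τ a A = A → ∀ s ∈ (P : Subgroup G), τ s A = A := by
    intro A hA s hs
    have hne : (⟨a, h.mem_P⟩ : (P : Subgroup G)) ≠ 1 := fun e' => h.ne_one (congrArg Subtype.val e')
    have hmem : (⟨s, hs⟩ : (P : Subgroup G)) ∈ Subgroup.zpowers ⟨a, h.mem_P⟩ := by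
      rw [zpowers_eq_top_of_prime_card h.card_P hne]
      exact Subgroup.mem_top _
    rw [mem_zpowers_iff_mem_range_orderOf] at hmem
    obtain ⟨m, -, hm⟩ := Finset.mem_image.1 hmem
    rw [← (show a ^ m = s from congrArg Subtype.val hm), hτ, Ad_eq_self_iff, map_pow]
    exact ((Ad_eq_self_iff R a A).1 hA).pow_left m
  have hSfix : ∀ A, τ a A = A → S A = Pj A := by
    intro A hA
    rw [hS, LinearMap.sum_apply]
    rw [sum_coset_eq h.card_P τ hsumP (fun c => T c.out A) ?_]
    · obtain ⟨x, hx⟩ := QuotientGroup.mk_out_eq_mul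
        (Subgroup.normalizer ((P : Subgroup G) : Set G)) (1 : G)
      rw [hx, hT _ _ x.2]
      simp [T]
    · intro s hs c
      simp only [hTsmul, Module.End.mul_apply]
      rw [hfixP A hA s⁻¹ ((P : Subgroup G).inv_mem hs)]
  have hDJ : D 𝐉 = 0 := by rw [hDapply, hτ, Ad_apply, aJ, sub_self]
  have hPjJ : Pj 𝐉 = 𝐉 := (h.proj_fixed (A := 𝐉) (by rw [Ad_apply, aJ])).choose_spec.2
  have hSJ : S 𝐉 = 𝐉 := by rw [hSfix _ (by rw [hτ, Ad_apply, aJ]), hPjJ]
  have hD2X : D (D 𝐗) = (-(μ ^ 2 / 2)) • 𝐉 := by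
    have e1 : D 𝐗 = (μ / 2) • 𝐇 - (μ ^ 2 / 4) • 𝐉 := by
      rw [hDapply, hτ, Ad_apply, aX]; abel
    rw [e1, map_sub, map_smul, map_smul, hDJ, hDapply 𝐇, hτ, Ad_apply, aH, smul_zero, sub_zero,
      sub_sub_cancel_left, smul_neg, smul_smul, neg_smul]
    ring_nf
  have hPjfin : ∀ A, D (D (D (Pj A))) = 0 := by
    intro A
    have h3X : D (D (D 𝐗)) = 0 := by rw [hD2X, map_smul, hDJ, smul_zero]
    have h2H : D (D 𝐇) = 0 := by
      rw [hDapply 𝐇, hτ, Ad_apply, aH, sub_sub_cancel_left, map_neg, map_smul, hDJ, smul_zero,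
        neg_zero]
    rw [show Pj A = _ from tripleProj_apply A]
    simp only [map_add, map_smul, hDJ, h3X, h2H, map_zero, smul_zero, add_zero]
  -- the stable image
  obtain ⟨m₀, hm₀⟩ := Filter.eventually_atTop.1 (S.eventually_isCompl_ker_pow_range_pow)
  set m := m₀ + 1 with hm
  have hcompl := hm₀ m (Nat.le_succ _)
  set W := LinearMap.range (S ^ m) with hW
  have hSmJ : (S ^ m) 𝐉 = 𝐉 := by
    rw [Module.End.coe_pow]
    exact Function.iterate_fixed hSJ m
  have hstab : ∀ g, ∀ A ∈ W, τ g A ∈ W := by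
    rintro g _ ⟨B, rfl⟩
    exact ⟨τ g B, by rw [← Module.End.mul_apply, ← ((hScomm g).pow_right m).eq, Module.End.mul_apply]⟩
  have hJW : 𝐉 ∈ W := ⟨𝐉, hSmJ⟩
  have hDW : ∀ A ∈ W, D A ∈ W := fun A hA => by
    rw [hDapply]; exact W.sub_mem (hstab a A hA) hA
  have hkerW : ∀ A ∈ W, D A = 0 → ∃ r : k, A = r • 𝐉 := by
    intro A hA hDA
    rw [hDapply, sub_eq_zero] at hDA
    obtain ⟨r, hr, -⟩ := h.proj_fixed hDA
    refine ⟨r, sub_eq_zero.1 (Submodule.disjoint_def.1 hcompl.disjoint _ ?_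
      (W.sub_mem hA (W.smul_mem r hJW)))⟩
    have h0 : S (A - r • 𝐉) = 0 := by
      rw [map_sub, map_smul, hSfix A hDA, hr, hSJ, sub_self]
    rw [LinearMap.mem_ker, hm, pow_succ, Module.End.mul_apply, h0, map_zero]
  have hJ0 : (𝐉 : Mat) ≠ 0 := by
    intro h0
    have := congrFun (congrFun h0 ⟨1, by omega⟩) ⟨0, by omega⟩
    simp [shift_apply] at this
  have hJD3 : ∀ A, D (D (D A)) ≠ 𝐉 := by
    intro A hA
    have hcomm : Commute D Pj := (hcommN a (Subgroup.le_normalizer h.mem_P)).sub_left (Commute.one_left _)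
    have h1 : Pj (D (D (D A))) = D (D (D (Pj A))) := by
      have h3 := congrArg (fun f : Module.End k Mat => f A) ((hcomm.mul_left hcomm).mul_left hcomm).eq
      simp only [Module.End.mul_apply] at h3
      exact h3.symm
    rw [hA, hPjfin, hPjJ] at h1
    exact hJ0 h1
  have hD3 : ∀ A ∈ W, D (D (D A)) = 0 := by
    intro A hA
    have key : ∀ l j : ℕ, 3 ≤ j → p ≤ j + l → (D ^ j) A = 0 := by
      intro l
      induction l with
      | zero =>
        intro j _ hjl
        rw [pow_eq_zero_of_le (by omega) (hDnil a h.mem_P), LinearMap.zero_apply]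
      | succ l ih =>
        intro j hj hjl
        by_contra hne
        have hmem : ∀ r : ℕ, (D ^ r) A ∈ W := by
          intro r
          induction r with
          | zero => simpa using hA
          | succ r ihr => rw [pow_succ', Module.End.mul_apply]; exact hDW _ ihr
        obtain ⟨r, hr⟩ := hkerW _ (hmem j) (by
          rw [← Module.End.mul_apply, ← pow_succ']; exact ih (j + 1) (by omega) (by omega))
        have hr0 : r ≠ 0 := fun h0 => hne (by rw [hr, h0, zero_smul])
        refine hJD3 (r⁻¹ • (D ^ (j - 3)) A) ?_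
        simp only [map_smul, ← Module.End.mul_apply, ← mul_assoc]
        rw [← pow_three', ← pow_add, show 3 + (j - 3) = j by omega, hr, smul_smul,
          inv_mul_cancel₀ hr0, one_smul]
    have := key p 3 le_rfl (by omega)
    rwa [pow_three', Module.End.mul_apply, Module.End.mul_apply] at this
  -- the basis
  set w := (S ^ m) ((-(μ ^ 2 / 2))⁻¹ • 𝐗) with hw
  have hwW : w ∈ W := ⟨_, rfl⟩
  have hν : -(μ ^ 2 / 2) ≠ 0 := neg_ne_zero.2 (div_ne_zero (pow_ne_zero _ hμ) h2)
  have hDS : Commute D (S ^ m) := ((hScomm a).pow_right m).sub_left (Commute.one_left _)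
  have hD2w : D (D w) = 𝐉 := by
    rw [hw, ← Module.End.mul_apply D (S ^ m), hDS.eq, Module.End.mul_apply,
      ← Module.End.mul_apply D (S ^ m), hDS.eq, Module.End.mul_apply, map_smul, map_smul, hD2X,
      smul_smul, inv_mul_cancel₀ hν, one_smul, hSmJ]
  have hspan : ∀ A ∈ W, ∃ r₀ r₁ r₂ : k, A = r₀ • w + r₁ • D w + r₂ • 𝐉 := by
    intro A hA
    obtain ⟨r₀, hr₀⟩ := hkerW _ (hDW _ (hDW _ hA)) (hD3 A hA)
    set A₁ := A - r₀ • w with hA₁
    have hA₁W : A₁ ∈ W := W.sub_mem hA (W.smul_mem _ hwW)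
    obtain ⟨r₁, hr₁⟩ := hkerW _ (hDW _ hA₁W) (by
      rw [hA₁, map_sub, map_sub, map_smul, map_smul, hD2w, hr₀, sub_self])
    obtain ⟨r₂, hr₂⟩ := hkerW _ (W.sub_mem hA₁W (W.smul_mem r₁ (hDW _ hwW))) (by
      rw [map_sub, map_smul, hD2w, hr₁, sub_self])
    refine ⟨r₀, r₁, r₂, ?_⟩
    rw [← hr₂, hA₁]
    abel
  -- the form
  have hiso : ∀ A B : Mat, (τ a A * τ a B).trace = (A * B).trace := fun A B => by
    rw [hτ, trace_Ad, Ad_comp]
  have hiso' : ∀ A B : Mat, (A * D B).trace + (D A * B).trace + (D A * D B).trace = 0 := by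
    intro A B
    simp only [hDapply, mul_sub, sub_mul, Matrix.trace_sub, hiso]
    ring
  have hJDw : (𝐉 * D w).trace = 0 := by
    have := hiso' 𝐉 w
    rwa [hDJ, zero_mul, zero_mul, Matrix.trace_zero, add_zero, add_zero] at this
  have hJJ : (𝐉 * 𝐉 : Mat).trace = 0 := by rw [← sq]; exact trace_shift_pow 2 (by omega)
  set b := (𝐉 * w).trace with hb
  have hwDw : (D w * D w).trace = -b := by
    have := hiso' w (D w)
    rw [hD2w, Matrix.trace_mul_comm w, ← hb, Matrix.trace_mul_comm (D w) 𝐉, hJDw, add_zero] at this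
    exact eq_neg_of_add_eq_zero_right this
  have hwDw2 : (w * D w).trace = b / 2 := by
    have := hiso' w w
    rw [Matrix.trace_mul_comm (D w) w, hwDw] at this
    field_simp
    linear_combination this
  have hsymS : ∀ (A B : Mat), (S A * B).trace = (A * S B).trace := by
    intro A B
    simp only [hS, LinearMap.sum_apply, Finset.sum_mul, Finset.mul_sum, Matrix.trace_sum, T,
      Module.End.mul_apply, hτ]
    refine Finset.sum_congr rfl fun c _ => ?_
    rw [trace_Ad, tripleProj_symm, trace_Ad, inv_inv]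
  have hsymSm : ∀ (j : ℕ) (A B : Mat), ((S ^ j) A * B).trace = (A * (S ^ j) B).trace := by
    intro j
    induction j with
    | zero => intro A B; simp
    | succ j ih =>
      intro A B
      rw [pow_succ', Module.End.mul_apply, hsymS, ih, ← Module.End.mul_apply, ← pow_succ,
        pow_succ']
  have hb0 : b ≠ 0 := by
    intro h0
    have h1 : ∀ A, (𝐉 * A).trace = 0 := by
      intro A
      rw [← hSmJ, hsymSm]
      obtain ⟨r₀, r₁, r₂, hr⟩ := hspan _ (⟨A, rfl⟩ : (S ^ m) A ∈ W)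
      rw [hr]
      simp only [mul_add, mul_smul_comm, Matrix.trace_add, Matrix.trace_smul, smul_eq_mul, hJDw,
        hJJ, mul_zero, add_zero, ← hb, h0]
    exact hc (h1 𝐗)
  obtain ⟨z, hz⟩ := IsAlgClosed.exists_pow_nat_eq (-(2 : k)) (show 0 < 2 by omega)
  have hz0 : z ≠ 0 := by
    intro h0
    rw [h0, zero_pow (by omega)] at hz
    exact h2 (neg_eq_zero.1 hz.symm)
  set H := z • D w with hH
  set c₀ := -((w * w).trace + b / 4) / (2 * b) with hc₀
  set F := w + (2 : k)⁻¹ • D w + c₀ • 𝐉 with hF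
  have hHW : H ∈ W := W.smul_mem _ (hDW _ hwW)
  have hFW : F ∈ W := W.add_mem (W.add_mem hwW (W.smul_mem _ (hDW _ hwW))) (W.smul_mem _ hJW)
  refine ⟨W, 𝐉, H, F, b, hb0, hstab, ?_, hJJ, ?_, ?_, ?_, ?_, ?_, ?_⟩
  · refine le_antisymm (fun A hA => ?_) (Submodule.span_le.2 ?_)
    · obtain ⟨r₀, r₁, r₂, rfl⟩ := hspan A hA
      have hJm : 𝐉 ∈ Submodule.span k {𝐉, H, F} := Submodule.subset_span (by simp)
      have hHm : H ∈ Submodule.span k {𝐉, H, F} := Submodule.subset_span (by simp)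
      have hFm : F ∈ Submodule.span k {𝐉, H, F} := Submodule.subset_span (by simp)
      have e1 : D w = z⁻¹ • H := by rw [hH, smul_smul, inv_mul_cancel₀ hz0, one_smul]
      have e2 : w = F - (2 : k)⁻¹ • (z⁻¹ • H) - c₀ • 𝐉 := by rw [← e1, hF]; abel
      rw [e1]
      rw [e2]
      exact add_mem (add_mem (Submodule.smul_mem _ _ (sub_mem (sub_mem hFm (Submodule.smul_mem _ _
        (Submodule.smul_mem _ _ hHm))) (Submodule.smul_mem _ _ hJm)))
        (Submodule.smul_mem _ _ (Submodule.smul_mem _ _ hHm))) (Submodule.smul_mem _ _ hJm)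
    · rintro A (rfl | rfl | rfl)
      · exact hJW
      · exact hHW
      · exact hFW
  · rw [hH, smul_mul_assoc, mul_smul_comm, Matrix.trace_smul, Matrix.trace_smul, hwDw, smul_eq_mul,
      smul_eq_mul, ← mul_assoc, ← sq, hz]
    ring
  · simp only [hF, mul_add, add_mul, mul_smul_comm, smul_mul_assoc, Matrix.trace_add,
      Matrix.trace_smul, smul_eq_mul, hwDw, hwDw2, hJJ, hJDw, Matrix.trace_mul_comm w 𝐉, ← hb,
      Matrix.trace_mul_comm (D w) 𝐉, Matrix.trace_mul_comm (D w) w, hc₀]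
    have h4 : (4 : k) ≠ 0 := by
      rw [show (4 : k) = 2 * 2 by norm_num]
      exact mul_ne_zero h2 h2
    field_simp
    ring
  · rw [hH, mul_smul_comm, Matrix.trace_smul, hJDw, smul_zero]
  · simp only [hF, mul_add, mul_smul_comm, Matrix.trace_add, Matrix.trace_smul, smul_eq_mul, hJDw,
      hJJ, mul_zero, add_zero, hb]
  · simp only [hH, hF, mul_add, mul_smul_comm, smul_mul_assoc, Matrix.trace_add, Matrix.trace_smul,
      smul_eq_mul, hwDw, Matrix.trace_mul_comm (D w) w, hwDw2, Matrix.trace_mul_comm (D w) 𝐉, hJDw]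
    field_simp
    ring
  · intro ε hε
    have h1 := hε 𝐉 hJW
    rw [hτ, Ad_apply, aJ] at h1
    have hε1 : ε = 1 := smul_left_injective k hJ0 (by simpa using h1.symm)
    have h3 := hε w hwW
    rw [hε1, one_smul] at h3
    have h4 : D w = 0 := by rw [hDapply, hτ, h3, sub_self]
    rw [h4, map_zero] at hD2w
    exact hJ0 hD2w.symm

end CfsgLib.HalfDegree
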