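import Cfsg.Agent.Lib.HalfDegree.Jordan

/-!
# The `sl₂`-triple of a Jordan block
-/

set_option autoImplicit false

open scoped Classical

namespace CfsgLib.HalfDegree

universe u

variable (k : Type*) [Field k] (e : ℕ)

/-- The weight matrix. -/
def weightMat : Matrix (Fin e) (Fin e) k :=
  Matrix.diagonal fun l : Fin e => 2 * ((l : ℕ) : k) - ((e : k) - 1)

/-- The lowering matrix. -/
def lowerMat : Matrix (Fin e) (Fin e) k :=
  Matrix.of fun r c => if (c : ℕ) = r + 1 then ((c : ℕ) : k) * ((e : k) - ((c : ℕ) : k)) else 0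

variable {k e}

local notation "𝐉" => shift k e
local notation "𝐇" => weightMat k e
local notation "𝐗" => lowerMat k e

theorem shift_apply (r c : Fin e) : (𝐉 : Matrix (Fin e) (Fin e) k) r c =
    if (r : ℕ) = c + 1 then 1 else 0 := rfl

theorem shift_mul_apply (M : Matrix (Fin e) (Fin e) k) (r c : Fin e) :
    (𝐉 * M) r c = if h : 1 ≤ (r : ℕ) then M ⟨r - 1, by omega⟩ c else 0 := by
  rw [Matrix.mul_apply]
  split_ifs with h
  · rw [Finset.sum_eq_single (⟨r - 1, by omega⟩ : Fin e)]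
    · rw [shift_apply, if_pos (by simp only; omega), one_mul]
    · intro m _ hm
      rw [shift_apply, if_neg, zero_mul]
      intro he
      exact hm (Fin.ext (by simp only; omega))
    · exact fun hn => absurd (Finset.mem_univ _) hn
  · refine Finset.sum_eq_zero fun m _ => ?_
    rw [shift_apply, if_neg (by omega), zero_mul]

theorem mul_shift_apply (M : Matrix (Fin e) (Fin e) k) (r c : Fin e) :
    (M * 𝐉) r c = if h : (c : ℕ) + 1 < e then M r ⟨c + 1, h⟩ else 0 := by
  rw [Matrix.mul_apply]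
  split_ifs with h
  · rw [Finset.sum_eq_single (⟨c + 1, h⟩ : Fin e)]
    · rw [shift_apply, if_pos rfl, mul_one]
    · intro m _ hm
      rw [shift_apply, if_neg, mul_zero]
      exact fun he => hm (Fin.ext he)
    · exact fun hn => absurd (Finset.mem_univ _) hn
  · refine Finset.sum_eq_zero fun m _ => ?_
    rw [shift_apply, if_neg (by have := m.2; omega), mul_zero]

theorem shift_pow_apply (l : ℕ) (r c : Fin e) :
    ((𝐉 : Matrix (Fin e) (Fin e) k) ^ l) r c = if (r : ℕ) = c + l then 1 else 0 := by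
  induction l generalizing c with
  | zero =>
    rw [pow_zero, Matrix.one_apply]
    simp [Fin.ext_iff]
  | succ l ih =>
    rw [pow_succ, mul_shift_apply]
    split_ifs with h hr hr
    · rw [ih, if_pos (by simp only; omega)]
    · rw [ih, if_neg (by simp only; omega)]
    · have := r.2; omega
    · rfl

theorem weight_shift : 𝐇 * 𝐉 - 𝐉 * 𝐇 = (2 : k) • 𝐉 := by
  ext r c
  rw [Matrix.sub_apply, weightMat, Matrix.diagonal_mul, Matrix.mul_diagonal, Matrix.smul_apply,
    shift_apply]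
  split_ifs with h
  · rw [h]; push_cast; simp only [smul_eq_mul]; ring
  · simp

theorem weight_lower : 𝐇 * 𝐗 - 𝐗 * 𝐇 = (-2 : k) • 𝐗 := by
  ext r c
  rw [Matrix.sub_apply, weightMat, Matrix.diagonal_mul, Matrix.mul_diagonal, Matrix.smul_apply]
  simp only [lowerMat, Matrix.of_apply]
  split_ifs with h
  · rw [h]; push_cast; simp only [smul_eq_mul]; ring
  · simp

theorem shift_lower : 𝐉 * 𝐗 - 𝐗 * 𝐉 = 𝐇 := by
  ext r c
  rw [Matrix.sub_apply, shift_mul_apply, mul_shift_apply, weightMat, Matrix.diagonal_apply]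
  simp only [lowerMat, Matrix.of_apply]
  by_cases hrc : r = c
  · subst hrc
    rw [if_pos rfl]
    by_cases h1 : 1 ≤ (r : ℕ) <;> by_cases h2 : (r : ℕ) + 1 < e
    · rw [dif_pos h1, dif_pos h2, if_pos (by omega), if_pos rfl]
      push_cast
      try simp only [if_true]
      ring
    · rw [dif_pos h1, dif_neg h2, if_pos (by omega)]
      have h4 : e = r + 1 := by omega
      have he : (e : k) = ((r : ℕ) : k) + 1 := by
        exact_mod_cast congrArg (fun m : ℕ => (m : k)) h4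
      rw [he]
      try simp only [if_true]
      ring
    · rw [dif_neg h1, dif_pos h2, if_pos rfl]
      have : (r : ℕ) = 0 := by omega
      rw [this]
      push_cast
      try simp only [if_true]
      ring
    · rw [dif_neg h1, dif_neg h2]
      have : (r : ℕ) = 0 := by omega
      have he : e = 1 := by omega
      rw [this]
      subst he
      push_cast
      try simp only [if_true]
      ring
  · rw [if_neg hrc]
    have hv : (r : ℕ) ≠ c := fun h => hrc (Fin.ext h)
    split_ifs <;> first | (exfalso; omega) | simp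

/-- What commutes with the shift is a polynomial in it. -/
theorem eq_sum_of_commute {A : Matrix (Fin e) (Fin e) k} (hA : Commute A 𝐉) (he : 0 < e) :
    A = ∑ l : Fin e, A l ⟨0, he⟩ • 𝐉 ^ (l : ℕ) := by
  set D := A - ∑ l : Fin e, A l ⟨0, he⟩ • 𝐉 ^ (l : ℕ) with hD
  suffices D = 0 from sub_eq_zero.1 this
  have hcomm : Commute D 𝐉 :=
    hA.sub_left (Commute.sum_left _ _ _ fun l _ => (Commute.pow_self _ _).smul_left _)
  have h0 : ∀ r, D r ⟨0, he⟩ = 0 := by
    intro r
    rw [hD, Matrix.sub_apply, Matrix.sum_apply, Finset.sum_eq_single r]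
    · rw [Matrix.smul_apply, shift_pow_apply, if_pos (by simp), smul_eq_mul, mul_one, sub_self]
    · intro l _ hl
      rw [Matrix.smul_apply, shift_pow_apply, if_neg, smul_zero]
      intro h
      exact hl (Fin.ext (by simp only [zero_add] at h; exact h.symm))
    · exact fun hn => absurd (Finset.mem_univ _) hn
  suffices ∀ (m : ℕ) (hm : m < e) (r : Fin e), D r ⟨m, hm⟩ = 0 from
    Matrix.ext fun r c => this c c.2 r
  intro m
  induction m with
  | zero => exact fun _ r => h0 r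
  | succ m ih =>
    intro hm r
    have h1 := congrFun (congrFun hcomm.eq r) ⟨m, by omega⟩
    rw [mul_shift_apply, shift_mul_apply, dif_pos hm] at h1
    rw [h1]
    split_ifs
    · exact ih _ _
    · rfl

theorem commute_of_commute_shift {A B : Matrix (Fin e) (Fin e) k} (hA : Commute A 𝐉)
    (hB : Commute B 𝐉) : Commute A B := by
  rcases Nat.eq_zero_or_pos e with he | he
  · subst he
    exact Subsingleton.elim _ _
  rw [eq_sum_of_commute hA he]
  exact Commute.sum_left _ _ _ fun l _ => (hB.symm.pow_left _).smul_left _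

theorem weight_pow (l : ℕ) : 𝐇 * 𝐉 ^ l - 𝐉 ^ l * 𝐇 = (2 * (l : k)) • 𝐉 ^ l := by
  ext r c
  rw [Matrix.sub_apply, weightMat, Matrix.diagonal_mul, Matrix.mul_diagonal, Matrix.smul_apply,
    shift_pow_apply]
  split_ifs with h
  · rw [h]; push_cast; simp only [smul_eq_mul]; ring
  · simp

/-- An element commuting with the shift on which the weight acts by a scalar. -/
theorem eq_smul_of_weight {p : ℕ} [CharP k p] (hp : 2 * e < p) (hp2 : 2 ≤ e)
    {A : Matrix (Fin e) (Fin e) k} (hA : Commute A 𝐉) (b : k)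
    (hw : 𝐇 * A - A * 𝐇 = (-2 : k) • A + b • 𝐉) : ∃ d : k, A = d • 𝐉 := by
  have he : 0 < e := by omega
  have hA' := eq_sum_of_commute hA he
  refine ⟨A ⟨1, by omega⟩ ⟨0, he⟩, ?_⟩
  conv_lhs => rw [hA']
  rw [Finset.sum_eq_single (⟨1, by omega⟩ : Fin e)]
  · rw [pow_one]
  · intro l _ hl
    have h1 := congrFun (congrFun hw l) ⟨0, he⟩
    rw [Matrix.sub_apply, weightMat, Matrix.diagonal_mul, Matrix.mul_diagonal, Matrix.add_apply,
      Matrix.smul_apply, Matrix.smul_apply, shift_apply,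
      if_neg (fun h => hl (Fin.ext h)), smul_zero, add_zero] at h1
    simp only [smul_eq_mul, Nat.cast_zero, mul_zero, zero_sub] at h1
    have h2 : ((2 * (l : ℕ) + 2 : ℕ) : k) * A l ⟨0, he⟩ = 0 := by
      push_cast
      linear_combination h1
    rcases mul_eq_zero.1 h2 with h3 | h3
    · rw [CharP.cast_eq_zero_iff k p] at h3
      have := Nat.le_of_dvd (by omega) h3
      have := l.2
      omega
    · rw [h3, zero_smul]
  · exact fun hn => absurd (Finset.mem_univ _) hn

theorem trace_shift_pow (l : ℕ) (hl : l ≠ 0) :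
    ((𝐉 : Matrix (Fin e) (Fin e) k) ^ l).trace = 0 := by
  refine Finset.sum_eq_zero fun r _ => ?_
  rw [Matrix.diag_apply, shift_pow_apply, if_neg (by omega)]

theorem trace_weight : (𝐇 : Matrix (Fin e) (Fin e) k).trace = 0 := by
  rw [← shift_lower, Matrix.trace_sub, Matrix.trace_mul_comm, sub_self]

theorem trace_weight_shift_pow (l : ℕ) : (𝐉 ^ l * 𝐇 : Matrix (Fin e) (Fin e) k).trace = 0 := by
  rcases Nat.eq_zero_or_pos l with hl | hl
  · rw [hl, pow_zero, one_mul, trace_weight]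
  · refine Finset.sum_eq_zero fun r _ => ?_
    rw [Matrix.diag_apply, weightMat, Matrix.mul_diagonal, shift_pow_apply, if_neg (by omega),
      zero_mul]

theorem trace_lower_shift_pow (l : ℕ) (hl : l ≠ 1) :
    (𝐉 ^ l * 𝐗 : Matrix (Fin e) (Fin e) k).trace = 0 := by
  refine Finset.sum_eq_zero fun r _ => ?_
  rw [Matrix.diag_apply, Matrix.mul_apply]
  refine Finset.sum_eq_zero fun m _ => ?_
  simp only [lowerMat, Matrix.of_apply, shift_pow_apply]
  split_ifs <;> first | (exfalso; omega) | simp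

theorem trace_lower : (𝐗 : Matrix (Fin e) (Fin e) k).trace = 0 := by
  refine Finset.sum_eq_zero fun r _ => ?_
  simp [lowerMat]

/-- The value of the trace form on shift and lowering matrices. -/
def pairing (k : Type*) [Field k] (e : ℕ) : k := (shift k e * lowerMat k e).trace

theorem six_mul_pairing :
    6 * pairing k e = (e : k) * ((e : k) - 1) * ((e : k) + 1) := by
  have h1 : pairing k e = ∑ r ∈ Finset.range e, (r : k) * ((e : k) - (r : k)) := by
    rw [pairing, Finset.sum_range]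
    refine Finset.sum_congr rfl fun r _ => ?_
    rw [Matrix.diag_apply, shift_mul_apply]
    split_ifs with h
    · simp only [lowerMat, Matrix.of_apply]
      rw [if_pos (by omega)]
    · rw [show (r : ℕ) = 0 by omega]
      simp
  have key : ∀ m : ℕ, 6 * ∑ r ∈ Finset.range m, (r : k) * ((e : k) - (r : k)) =
      (m : k) * ((m : k) - 1) * (3 * (e : k) - 2 * (m : k) + 1) := by
    intro m
    induction m with
    | zero => simp
    | succ m ih =>
      rw [Finset.sum_range_succ, mul_add, ih]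
      push_cast
      ring
  rw [h1, key]
  ring

theorem trace_weight_weight : (𝐇 * 𝐇 : Matrix (Fin e) (Fin e) k).trace = 2 * pairing k e := by
  nth_rewrite 2 [← shift_lower]
  have h1 : (𝐇 * 𝐗 * 𝐉 : Matrix (Fin e) (Fin e) k).trace = (𝐉 * 𝐇 * 𝐗).trace := by
    rw [Matrix.trace_mul_comm, ← mul_assoc]
  have h2 := congrArg (fun M => (M * 𝐗).trace) (weight_shift (k := k) (e := e))
  simp only [sub_mul, Matrix.trace_sub, smul_mul_assoc, Matrix.trace_smul, smul_eq_mul] at h2
  rw [mul_sub, Matrix.trace_sub, ← mul_assoc, ← mul_assoc, h1, h2]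
  rfl

theorem trace_shift_weight : (𝐉 * 𝐇 : Matrix (Fin e) (Fin e) k).trace = 0 := by
  simpa using trace_weight_shift_pow (k := k) (e := e) 1

theorem trace_lower_weight : (𝐗 * 𝐇 : Matrix (Fin e) (Fin e) k).trace = 0 := by
  refine Finset.sum_eq_zero fun r _ => ?_
  rw [Matrix.diag_apply, weightMat, Matrix.mul_diagonal]
  simp [lowerMat]

theorem trace_lower_lower : (𝐗 * 𝐗 : Matrix (Fin e) (Fin e) k).trace = 0 := by
  refine Finset.sum_eq_zero fun r _ => ?_
  rw [Matrix.diag_apply, Matrix.mul_apply]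
  refine Finset.sum_eq_zero fun m _ => ?_
  simp only [lowerMat, Matrix.of_apply]
  split_ifs <;> first | (exfalso; omega) | simp

variable {G : Type u} [Group G] [Fintype G] {p : ℕ} [Fact p.Prime] {P : Sylow p G}
  [CharP k p] {R : G →* Matrix (Fin e) (Fin e) k} {n a : G} {i : ℕ}

theorem IsNormalForm.natCast_ne_zero (h : IsNormalForm P e R n a i) {m : ℕ} (hm : 0 < m)
    (hlt : m < p) : (m : k) ≠ 0 := by
  rw [Ne, CharP.cast_eq_zero_iff k p]
  intro hd
  have := Nat.le_of_dvd hm hd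
  omega

theorem IsNormalForm.pairing_ne_zero (h : IsNormalForm P e R n a i) : pairing k e ≠ 0 := by
  intro h0
  have h1 := six_mul_pairing (k := k) (e := e)
  rw [h0, mul_zero] at h1
  have hd := h.deg
  have h5 := h.five_le
  have e1 : ((e - 1 : ℕ) : k) = (e : k) - 1 := by rw [Nat.cast_sub (by omega), Nat.cast_one]
  have e2 : ((e + 1 : ℕ) : k) = (e : k) + 1 := by push_cast; rfl
  rw [← e1, ← e2] at h1
  exact mul_ne_zero (mul_ne_zero (h.natCast_ne_zero (by omega) (by omega))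
    (h.natCast_ne_zero (by omega) (by omega))) (h.natCast_ne_zero (by omega) (by omega)) h1.symm

theorem IsNormalForm.two_ne_zero (h : IsNormalForm P e R n a i) : (2 : k) ≠ 0 := by
  have h5 := h.five_le
  have := h.natCast_ne_zero (show 0 < 2 by omega) (by omega)
  exact_mod_cast this

/-- The action of the normalizer on the triple. -/
theorem IsNormalForm.conj_triple (h : IsNormalForm P e R n a i) :
    ∃ (q μ : k), q ≠ 0 ∧ μ ≠ 0 ∧
      R n * 𝐉 * R n⁻¹ = q • 𝐉 ∧ R n * 𝐇 * R n⁻¹ = 𝐇 ∧ R n * 𝐗 * R n⁻¹ = q⁻¹ • 𝐗 ∧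
      R a * 𝐉 * R a⁻¹ = 𝐉 ∧ R a * 𝐇 * R a⁻¹ = 𝐇 - μ • 𝐉 ∧
      R a * 𝐗 * R a⁻¹ = 𝐗 + (μ / 2) • 𝐇 - (μ ^ 2 / 4) • 𝐉 := by
  have hd := h.deg
  have h5 := h.five_le
  have he : 0 < e := by omega
  obtain ⟨γ, hγ, hA⟩ := h.diag
  set q : k := (i : k) with hq
  have hq0 : q ≠ 0 := by
    intro h0
    have := (h.prim e).2 dvd_rfl
    rw [← hq, h0, zero_pow he.ne'] at this
    exact zero_ne_one this
  set A := R n
  set A' := R n⁻¹
  have hAA' : A * A' = 1 := by rw [← map_mul, mul_inv_cancel, map_one]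
  have hA'A : A' * A = 1 := by rw [← map_mul, inv_mul_cancel, map_one]
  have hconj : ∀ (M : Matrix (Fin e) (Fin e) k) (c : k), A * M = (c • M) * A →
      A * M * A' = c • M := fun M c hM => by rw [hM, mul_assoc, hAA', mul_one]
  have hAJ : A * 𝐉 * A' = q • 𝐉 := by
    refine hconj _ _ ?_
    rw [hA]
    ext r c
    rw [Matrix.diagonal_mul, smul_mul_assoc, Matrix.smul_apply, Matrix.mul_diagonal, shift_apply]
    split_ifs with hrc
    · rw [hrc, pow_succ]; simp only [smul_eq_mul]; ring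
    · simp
  have hAH : A * 𝐇 * A' = 𝐇 := by
    rw [hA, weightMat, Matrix.diagonal_mul_diagonal]
    simp only [mul_comm (γ * q ^ _)]
    rw [← Matrix.diagonal_mul_diagonal, ← hA, mul_assoc, hAA', mul_one]
  have hAX : A * 𝐗 * A' = q⁻¹ • 𝐗 := by
    refine hconj _ _ ?_
    rw [hA]
    ext r c
    rw [Matrix.diagonal_mul, smul_mul_assoc, Matrix.smul_apply, Matrix.mul_diagonal]
    simp only [lowerMat, Matrix.of_apply]
    split_ifs with hrc
    · rw [hrc, pow_succ]
      simp only [smul_eq_mul]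
      field_simp
    · simp
  set U := R a
  set U' := R a⁻¹
  have hUU' : U * U' = 1 := by rw [← map_mul, mul_inv_cancel, map_one]
  have hU'U : U' * U = 1 := by rw [← map_mul, inv_mul_cancel, map_one]
  have hUJ : Commute U 𝐉 := h.comm
  have hU'J : Commute U' 𝐉 := by
    change U' * 𝐉 = 𝐉 * U'
    calc U' * 𝐉 = U' * (𝐉 * U) * U' := by rw [mul_assoc, mul_assoc 𝐉, hUU', mul_one]
      _ = 𝐉 * U' := by rw [← hUJ.eq, ← mul_assoc, hU'U, one_mul]
  -- the logarithmic derivative
  set L := U' * (𝐇 * U - U * 𝐇) with hL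
  have hLJ : Commute L 𝐉 := by
    refine hU'J.mul_left ?_
    change (𝐇 * U - U * 𝐇) * 𝐉 = 𝐉 * (𝐇 * U - U * 𝐇)
    have h1 : 𝐇 * 𝐉 = 𝐉 * 𝐇 + (2 : k) • 𝐉 := by rw [← weight_shift]; abel
    rw [sub_mul, mul_sub, mul_assoc 𝐇, hUJ.eq, ← mul_assoc 𝐇, h1, add_mul, mul_assoc U, h1,
      mul_add, smul_mul_assoc, mul_smul_comm, ← mul_assoc 𝐉 U 𝐇, ← mul_assoc U 𝐉 𝐇, hUJ.eq,
      mul_assoc 𝐉 𝐇 U]
    abel
  have hUL : Commute U L := commute_of_commute_shift hUJ hLJ
  have hpow : ∀ m : ℕ, 𝐇 * U ^ m - U ^ m * 𝐇 = (m : k) • (U ^ m * L) := by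
    intro m
    induction m with
    | zero => simp
    | succ m ih =>
      have e1 : 𝐇 * U ^ (m + 1) - U ^ (m + 1) * 𝐇 =
          (𝐇 * U ^ m - U ^ m * 𝐇) * U + U ^ m * (𝐇 * U - U * 𝐇) := by
        rw [sub_mul, mul_sub, pow_succ]
        simp only [mul_assoc]
        abel
      have e2 : 𝐇 * U - U * 𝐇 = U * L := by rw [hL, ← mul_assoc, hUU', one_mul]
      rw [e1, ih, e2, smul_mul_assoc, mul_assoc, ← hUL.eq, ← mul_assoc, ← pow_succ, Nat.cast_succ,
        add_smul, one_smul]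
  have hAU : A * U * A' = U ^ i := by
    rw [← map_mul, ← map_mul, h.conj_eq, map_pow]
  have hAL : A * L * A' = q • L := by
    have e1 : A * U' * A' = U' ^ i := by
      rw [← map_mul, ← map_mul, ← conj_inv (a := a) (b := n), h.conj_eq, ← inv_pow, map_pow]
    have e2 : A * (𝐇 * U - U * 𝐇) * A' = 𝐇 * U ^ i - U ^ i * 𝐇 := by
      have f : ∀ X Y : Matrix (Fin e) (Fin e) k, A * (X * Y) * A' = (A * X * A') * (A * Y * A') :=
        fun X Y => by
          rw [mul_assoc (A * X) A' _, ← mul_assoc A' (A * Y), ← mul_assoc A' A, hA'A, one_mul]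
          simp only [mul_assoc]
      rw [mul_sub, sub_mul, f, f, hAH, hAU]
    have e3 : A * L * A' = (A * U' * A') * (A * (𝐇 * U - U * 𝐇) * A') := by
      rw [hL, mul_assoc (A * U') A' _, ← mul_assoc A' (A * _), ← mul_assoc A' A, hA'A, one_mul]
      simp only [mul_assoc]
    rw [e3, e1, e2, hpow, mul_smul_comm, ← mul_assoc,
      ← (show Commute U' U from hU'U.trans hUU'.symm).mul_pow, hU'U, one_pow, one_mul]
  have hL1 : L = L ⟨1, by omega⟩ ⟨0, he⟩ • 𝐉 := by
    conv_lhs => rw [eq_sum_of_commute hLJ he]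
    rw [Finset.sum_eq_single (⟨1, by omega⟩ : Fin e)]
    · rw [pow_one]
    · intro l _ hl
      have e1 : A * L = q • (L * A) := by
        calc A * L = A * L * A' * A := by rw [mul_assoc (A * L), hA'A, mul_one]
          _ = q • (L * A) := by rw [hAL, smul_mul_assoc]
      have e2 := congrFun (congrFun e1 l) ⟨0, he⟩
      rw [hA, Matrix.diagonal_mul, Matrix.smul_apply, Matrix.mul_diagonal] at e2
      simp only [pow_zero, mul_one, smul_eq_mul] at e2
      have e3 : (γ * L l ⟨0, he⟩) * (q ^ (l : ℕ) - q) = 0 := by linear_combination e2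
      rcases mul_eq_zero.1 e3 with e4 | e4
      · rw [(mul_eq_zero.1 e4).resolve_left hγ, zero_smul]
      · exfalso
        rw [sub_eq_zero] at e4
        rcases Nat.eq_zero_or_pos (l : ℕ) with hl0 | hl0
        · rw [hl0, pow_zero] at e4
          have := Nat.le_of_dvd (by omega) ((h.prim 1).1 (by rw [pow_one]; exact e4.symm))
          omega
        · have e5 : q ^ ((l : ℕ) - 1) = 1 := by
            refine mul_right_cancel₀ hq0 ?_
            rw [← pow_succ, Nat.sub_add_cancel hl0, one_mul, e4]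
          have hl1 : (l : ℕ) ≠ 1 := fun h1 => hl (Fin.ext h1)
          have := Nat.le_of_dvd (by omega) ((h.prim _).1 e5)
          have := l.2
          omega
    · exact fun hn => absurd (Finset.mem_univ _) hn
  set μ := L ⟨1, by omega⟩ ⟨0, he⟩
  have hHU : 𝐇 * U - U * 𝐇 = μ • (U * 𝐉) := by
    rw [← mul_smul_comm, ← hL1, hL, ← mul_assoc, hUU', one_mul]
  have hμ : μ ≠ 0 := by
    intro h0
    rw [h0, zero_smul] at hHU
    refine h.ne_one (h.inj ?_)
    rw [map_one]
    have hU0 := eq_sum_of_commute hUJ he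
    have hz : ∀ l : Fin e, (l : ℕ) ≠ 0 → U l ⟨0, he⟩ = 0 := by
      intro l hl
      have e2 := congrFun (congrFun hHU l) ⟨0, he⟩
      rw [Matrix.sub_apply, weightMat, Matrix.diagonal_mul, Matrix.mul_diagonal] at e2
      simp only [Nat.cast_zero, mul_zero, zero_sub, Matrix.zero_apply] at e2
      have e3 : ((2 * (l : ℕ) : ℕ) : k) * U l ⟨0, he⟩ = 0 := by push_cast; linear_combination e2
      exact (mul_eq_zero.1 e3).resolve_left
        (h.natCast_ne_zero (by omega) (by have := l.2; omega))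
    rw [Finset.sum_eq_single (⟨0, he⟩ : Fin e) (fun l _ hl => by
        rw [hz l (fun h1 => hl (Fin.ext h1)), zero_smul])
      (fun hn => absurd (Finset.mem_univ _) hn), pow_zero] at hU0
    set u₀ := U ⟨0, he⟩ ⟨0, he⟩
    have hnil := h.nil a h.mem_P
    rw [show R a = U from rfl, hU0, show u₀ • (1 : Matrix (Fin e) (Fin e) k) - 1 = (u₀ - 1) • 1 by
      rw [sub_smul, one_smul]] at hnil
    rw [smul_pow, one_pow] at hnil
    have := congrFun (congrFun hnil ⟨0, he⟩) ⟨0, he⟩
    simp at this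
    rw [show R a = U from rfl, hU0, sub_eq_zero.1 this.1, one_smul]
  have hHc : U * 𝐇 * U' = 𝐇 - μ • 𝐉 := by
    have e1 : U * 𝐇 = 𝐇 * U - μ • (U * 𝐉) := by rw [← hHU, sub_sub_cancel]
    rw [e1, sub_mul, mul_assoc, hUU', mul_one, smul_mul_assoc, hUJ.eq, mul_assoc, hUU', mul_one]
  have hJc : U * 𝐉 * U' = 𝐉 := by rw [hUJ.eq, mul_assoc, hUU', mul_one]
  set X₁ := U * 𝐗 * U' with hX₁
  set D := X₁ - 𝐗 - (μ / 2) • 𝐇 with hD
  have h2 := h.two_ne_zero
  have hUc : ∀ Y Z : Matrix (Fin e) (Fin e) k, (U * Y * U') * (U * Z * U') = U * (Y * Z) * U' :=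
    fun Y Z => by
      rw [mul_assoc (U * Y), ← mul_assoc U' (U * Z), ← mul_assoc U' U, hU'U, one_mul]
      simp only [mul_assoc]
  have hbrJ : 𝐉 * X₁ - X₁ * 𝐉 = 𝐇 - μ • 𝐉 := by
    rw [← hHc, ← shift_lower, hX₁]
    conv_lhs => rw [← hJc]
    rw [hUc, hUc, mul_sub, sub_mul]
  have hDJ : Commute D 𝐉 := by
    change D * 𝐉 = 𝐉 * D
    refine (sub_eq_zero.1 ?_).symm
    have e1 : 𝐉 * 𝐇 - 𝐇 * 𝐉 = -((2 : k) • 𝐉) := by rw [← weight_shift, neg_sub]
    calc 𝐉 * D - D * 𝐉 = (𝐉 * X₁ - X₁ * 𝐉) - (𝐉 * 𝐗 - 𝐗 * 𝐉) - (μ / 2) • (𝐉 * 𝐇 - 𝐇 * 𝐉) := by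
          rw [hD]
          simp only [mul_sub, sub_mul, mul_smul_comm, smul_mul_assoc, smul_sub]
          abel
      _ = 0 := by
          rw [hbrJ, shift_lower, e1, smul_neg, smul_smul, div_mul_cancel₀ _ h2]
          abel
  have hbrH : 𝐇 * X₁ - X₁ * 𝐇 = (-2 : k) • X₁ + μ • (𝐇 - μ • 𝐉) := by
    have e1 : U * (𝐇 + μ • 𝐉) * U' = 𝐇 := by
      rw [mul_add, add_mul, hHc, mul_smul_comm, smul_mul_assoc, hJc, sub_add_cancel]
    conv_lhs => rw [← e1]
    rw [hX₁, hUc, hUc, ← sub_mul, ← mul_sub]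
    rw [add_mul, mul_add, smul_mul_assoc, mul_smul_comm,
      show 𝐇 * 𝐗 + μ • (𝐉 * 𝐗) - (𝐗 * 𝐇 + μ • (𝐗 * 𝐉)) =
        (𝐇 * 𝐗 - 𝐗 * 𝐇) + μ • (𝐉 * 𝐗 - 𝐗 * 𝐉) by rw [smul_sub]; abel,
      weight_lower, shift_lower, mul_add, add_mul, mul_smul_comm, smul_mul_assoc, mul_smul_comm,
      smul_mul_assoc, hHc]
  have hDH : 𝐇 * D - D * 𝐇 = (-2 : k) • D + (-(μ ^ 2)) • 𝐉 := by
    calc 𝐇 * D - D * 𝐇 = (𝐇 * X₁ - X₁ * 𝐇) - (𝐇 * 𝐗 - 𝐗 * 𝐇) := by
          rw [hD]
          simp only [mul_sub, sub_mul, mul_smul_comm, smul_mul_assoc]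
          abel
      _ = _ := by
          rw [hbrH, weight_lower, hD, smul_sub, smul_sub, smul_sub, smul_smul, smul_smul,
            neg_smul (μ ^ 2), neg_mul, mul_div_cancel₀ _ h2, neg_smul μ, sq]
          abel
  obtain ⟨d, hdD⟩ := eq_smul_of_weight (p := p) (by omega) (by omega) hDJ _ hDH
  have hX₁e : X₁ = 𝐗 + (μ / 2) • 𝐇 + d • 𝐉 := by rw [← hdD, hD]; abel
  have htr : (X₁ * X₁).trace = 0 := by
    rw [hX₁, hUc, Matrix.trace_mul_comm, ← mul_assoc, hU'U, one_mul, trace_lower_lower]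
  have hval : d = -(μ ^ 2 / 4) := by
    have hc := h.pairing_ne_zero
    have eJJ : (𝐉 * 𝐉 : Matrix (Fin e) (Fin e) k).trace = 0 := by
      rw [← sq]; exact trace_shift_pow 2 (by omega)
    rw [hX₁e] at htr
    simp only [mul_add, add_mul, mul_smul_comm, smul_mul_assoc, Matrix.trace_add,
      Matrix.trace_smul, smul_eq_mul, trace_lower_lower, trace_weight_weight,
      Matrix.trace_mul_comm 𝐇 𝐗, trace_lower_weight, Matrix.trace_mul_comm 𝐇 𝐉,
      trace_shift_weight, eJJ, Matrix.trace_mul_comm 𝐗 𝐉] at htr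
    change _ = (0 : k) at htr
    rw [← pairing] at htr
    have e3 : (2 * pairing k e) * (d + (μ / 2) * (μ / 2)) = 0 := by linear_combination htr
    rcases mul_eq_zero.1 e3 with e4 | e4
    · exact absurd e4 (mul_ne_zero h2 hc)
    · rw [eq_neg_of_add_eq_zero_left e4, div_mul_div_comm, ← sq]
      norm_num
  refine ⟨q, μ, hq0, hμ, hAJ, hAH, hAX, hJc, hHc, ?_⟩
  rw [hX₁e, hval, neg_smul, ← sub_eq_add_neg]

end CfsgLib.HalfDegree
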